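import Cfsg.Agent.Helper1.BG139Defs
import Cfsg.Agent.S1423
import Cfsg.Prelude.Def_OddOrder

set_option autoImplicit false

namespace Cfsg.Agent.Helper58

open Cfsg Subgroup Cfsg.Agent.Helper1

universe u

variable {G : Type u} [Group G] [Finite G]

/-- PIECE `B2`. -/
theorem bg139_not_beta (hG : IsMinSimpleOddOrder G) {M Ms S : Subgroup G} {s : ℕ}
    (c : BG139Cfg M Ms S s) : s ∉ beta M := by
  intro hβ
  haveI : Fact s.Prime := ⟨c.hs⟩
  have hSM : S ≤ M := fun x hx => (c.hN (Subgroup.le_normalizer hx)).1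
  have hSMs : S ≤ Ms := fun x hx => (c.hN (Subgroup.le_normalizer hx)).2
  -- a subgroup of order `s` in `S`
  obtain ⟨X, hXS, hXc⟩ : ∃ X : Subgroup G, X ≤ S ∧ Nat.card X = s := by
    have hdvd : s ∣ Nat.card S := by
      obtain ⟨n, hn⟩ := IsPGroup.iff_card.mp c.hSp
      have hn0 : n ≠ 0 := by
        rintro rfl
        rw [pow_zero] at hn
        exact c.hS1 (Subgroup.eq_bot_of_card_eq S hn)
      rw [hn]; exact dvd_pow_self s hn0
    obtain ⟨x, hx⟩ := exists_prime_orderOf_dvd_card' (G := S) s hdvd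
    refine ⟨Subgroup.zpowers (x : G), ?_, ?_⟩
    · rw [Subgroup.zpowers_le]; exact x.2
    · rw [Nat.card_zpowers, Subgroup.orderOf_coe]; exact hx
  obtain ⟨P⟩ : Nonempty (Sylow s ↥(sigmaCore M)) := inferInstance
  obtain ⟨-, huniq, hPM⟩ :=
    Cfsg.Agent.S1423.result hG M c.hM s c.hsM X (hXS.trans hSM) hXc P (Or.inl hβ)
  obtain ⟨P', hP'⟩ : ∃ P' : Subgroup G,
      P' = (P : Subgroup ↥(sigmaCore M)).map (sigmaCore M).subtype := ⟨_, rfl⟩
  rw [← hP'] at huniq hPM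
  have hP's : IsPGroup s P' := by
    rw [hP']
    exact P.isPGroup'.map _
  let S' : Sylow s G := ⟨S, c.hSp, fun {Q} hQ hSQ => c.hSmax Q hQ hSQ⟩
  obtain ⟨Q, hQ⟩ := hP's.exists_le_sylow
  obtain ⟨g, hg⟩ := MulAction.exists_smul_eq G S' Q
  have hP'g : P' ≤ Ms.map (MulAut.conj g).toMonoidHom := by
    intro x hx
    have hxQ : x ∈ (Q : Subgroup G) := hQ hx
    rw [← hg, Sylow.coe_subgroup_smul, Subgroup.mem_pointwise_smul_iff_inv_smul_mem] at hxQ
    have hxS : g⁻¹ * x * g ∈ S := by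
      have e : (MulAut.conj g)⁻¹ • x = g⁻¹ * x * g := by
        rw [MulAut.smul_def, MulAut.conj_inv_apply]
      rw [e] at hxQ
      exact hxQ
    refine Subgroup.mem_map.mpr ⟨g⁻¹ * x * g, hSMs hxS, ?_⟩
    simp only [MulEquiv.coe_toMonoidHom, MulAut.conj_apply]
    group
  have hco : IsCoatom (Ms.map (MulAut.conj g).toMonoidHom) := by
    have := (OrderIso.isCoatom_iff (MulEquiv.mapSubgroup (MulAut.conj g)) Ms).mpr c.hMs
    exact this
  have h : Ms.map (MulAut.conj g).toMonoidHom = M :=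
    huniq.unique ⟨hco, hP'g⟩ ⟨c.hM, hPM⟩
  apply c.hnc g⁻¹
  rw [← h, Subgroup.map_map]
  ext x
  simp only [Subgroup.mem_map, MonoidHom.coe_comp, MulEquiv.coe_toMonoidHom, Function.comp_apply,
    MulAut.conj_apply]
  constructor
  · intro hx
    exact ⟨x, hx, by group⟩
  · rintro ⟨y, hy, rfl⟩
    have : g⁻¹ * (g * y * g⁻¹) * g⁻¹⁻¹ = y := by group
    rw [this]; exact hy

end Cfsg.Agent.Helper58
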