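import Mathlib

set_option autoImplicit false

/-!
# CALL BG15 piece CYC (helper58): commutators centralize a normal cyclic subgroup.
-/

namespace Cfsg.Agent.Helper58

open Subgroup

universe u

/-- CYC. Commutators centralize a normal cyclic subgroup (PURE, any group):
`g w g⁻¹ = w^a`, `h w h⁻¹ = w^b` so `gh` and `hg` act alike on `w`. -/
theorem bg15_comm_centralizes_cyclic {Δ : Type u} [Group Δ] (w : Δ) (hn : (zpowers w).Normal)
    (g h : Δ) : (g * h * g⁻¹ * h⁻¹) * w = w * (g * h * g⁻¹ * h⁻¹) := by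
  have key : ∀ x y : Δ, (x * y) * w * (x * y)⁻¹ = (y * x) * w * (y * x)⁻¹ := by
    intro x y
    obtain ⟨a, ha⟩ := Subgroup.mem_zpowers_iff.mp (hn.conj_mem w (Subgroup.mem_zpowers w) x)
    obtain ⟨b, hb⟩ := Subgroup.mem_zpowers_iff.mp (hn.conj_mem w (Subgroup.mem_zpowers w) y)
    have h1 : (x * y) * w * (x * y)⁻¹ = w ^ (a * b) := by
      have h0 : (x * y) * w * (x * y)⁻¹ = x * (y * w * y⁻¹) * x⁻¹ := by group
      rw [h0, ← hb, ← conj_zpow, ← ha, ← zpow_mul]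
    have h2 : (y * x) * w * (y * x)⁻¹ = w ^ (b * a) := by
      have h0 : (y * x) * w * (y * x)⁻¹ = y * (x * w * x⁻¹) * y⁻¹ := by group
      rw [h0, ← ha, ← conj_zpow, ← hb, ← zpow_mul]
    rw [h1, h2, mul_comm]
  have k1 := key g⁻¹ h⁻¹
  calc (g * h * g⁻¹ * h⁻¹) * w
      = g * h * ((g⁻¹ * h⁻¹) * w * (g⁻¹ * h⁻¹)⁻¹) * (g⁻¹ * h⁻¹) := by group
    _ = g * h * ((h⁻¹ * g⁻¹) * w * (h⁻¹ * g⁻¹)⁻¹) * (g⁻¹ * h⁻¹) := by rw [k1]
    _ = w * (g * h * g⁻¹ * h⁻¹) := by group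

end Cfsg.Agent.Helper58
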