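import Mathlib
import Cfsg.Agent.Helper98.C2Defs
import Cfsg.Agent.Helper58.C2L

/-!
# CALL S5634 piece A2 (seat helper58): a dense matrix in an overgroup of the monomial group

If `X` contains all invertible monomial matrices and a matrix `g` without zero entries
(`q ≥ 5`, `n ≥ 3`), then `X` contains a non-monomial matrix with a zero entry.
-/

set_option autoImplicit false

namespace Cfsg.Agent.Helper58.C2A2

open Matrix Cfsg.Agent.Helper98.C2 Cfsg.Agent.Helper58.C2L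
open scoped MatrixGroups

variable {K : Type*} [Field K]

theorem col_indep {ι : Type*} [Fintype ι] [DecidableEq ι] (h g : Matrix ι ι K) (hhg : h * g = 1)
    (r1 r2 r3 : ι) (h12 : r1 ≠ r2) (h13 : r1 ≠ r3) (A1 A2 A3 : K)
    (hrel : ∀ j, A1 * g j r1 + A2 * g j r2 + A3 * g j r3 = 0) : A1 = 0 := by
  have e : ∀ r, ∑ j, h r1 j * g j r = if r1 = r then 1 else 0 := by
    intro r
    rw [← Matrix.mul_apply, hhg, Matrix.one_apply]
  have h1 : ∑ j, h r1 j * (A1 * g j r1 + A2 * g j r2 + A3 * g j r3) = 0 := by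
    apply Finset.sum_eq_zero
    intro j _
    rw [hrel j, mul_zero]
  have h2 : ∑ j, h r1 j * (A1 * g j r1 + A2 * g j r2 + A3 * g j r3) =
      A1 * ∑ j, h r1 j * g j r1 + A2 * ∑ j, h r1 j * g j r2 + A3 * ∑ j, h r1 j * g j r3 := by
    simp only [Finset.mul_sum, ← Finset.sum_add_distrib]
    apply Finset.sum_congr rfl
    intro j _
    ring
  rw [h2, e, e, e, if_pos rfl, if_neg h12, if_neg h13] at h1
  simpa using h1

omit [Field K] in
theorem exists_three [Fintype K] (hq : 5 ≤ Fintype.card K) (p q : K) :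
    ∃ x1 x2 x3 : K, x1 ≠ x2 ∧ x1 ≠ x3 ∧ x2 ≠ x3 ∧ x1 ≠ p ∧ x1 ≠ q ∧ x2 ≠ p ∧ x2 ≠ q ∧
      x3 ≠ p ∧ x3 ≠ q := by
  classical
  have h3 : 2 < (Finset.univ \ ({p, q} : Finset K)).card := by
    have h2 : ({p, q} : Finset K).card ≤ 2 := Finset.card_le_two
    have h4 := Finset.le_card_sdiff ({p, q} : Finset K) Finset.univ
    rw [Finset.card_univ] at h4
    omega
  obtain ⟨x1, x2, x3, h1, h2, h3', h12, h13, h23⟩ := Finset.two_lt_card_iff.1 h3
  simp only [Finset.mem_sdiff, Finset.mem_univ, true_and, Finset.mem_insert,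
    Finset.mem_singleton, not_or] at h1 h2 h3'
  exact ⟨x1, x2, x3, h12, h13, h23, h1.1, h1.2, h2.1, h2.2, h3'.1, h3'.2⟩

/-- The line of vectors `ω` with `ρ ⬝ᵥ ω = 0` and `ω j = 1` for `j ≠ a, b`. -/
theorem exists_family {ι : Type*} [Fintype ι] [DecidableEq ι] (ρ : ι → K) (a b e : ι)
    (hab : a ≠ b) (hea : e ≠ a) (heb : e ≠ b) (ha : ρ a ≠ 0) (hb : ρ b ≠ 0) :
    ∃ (ω : K → ι → K) (p q : K), (∀ x, ∑ j, ρ j * ω x j = 0) ∧
      (∀ x, x ≠ p → x ≠ q → ∀ j, ω x j ≠ 0) ∧ (∀ x, ω x e = 1) ∧ (∀ x, ω x a = 1 + x) ∧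
      (∀ x1 x2 x3 j, (x2 - x3) * ω x1 j + (x3 - x1) * ω x2 j + (x1 - x2) * ω x3 j = 0) := by
  refine ⟨fun x j => 1 + (if j = a then x else 0) +
    (if j = b then -(∑ j, ρ j + ρ a * x) * (ρ b)⁻¹ else 0), -1,
    (ρ b - ∑ j, ρ j) * (ρ a)⁻¹, ?_, ?_, ?_, ?_, ?_⟩
  · intro x
    simp only [mul_add, mul_one, Finset.sum_add_distrib, mul_ite, mul_zero, Finset.sum_ite_eq',
      Finset.mem_univ, if_true]
    field_simp
    ring
  · intro x hxp hxq j
    by_cases hja : j = a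
    · subst hja
      simp only [if_true, if_neg hab, add_zero]
      intro h0
      apply hxp
      linear_combination h0
    · by_cases hjb : j = b
      · subst hjb
        simp only [if_true, if_neg hja, add_zero]
        intro h0
        apply hxq
        have h1 : (∑ j, ρ j + ρ a * x) * (ρ j)⁻¹ = 1 := by linear_combination -h0
        rw [mul_inv_eq_one₀ hb] at h1
        rw [eq_mul_inv_iff_mul_eq₀ ha]
        linear_combination h1
      · simp [hja, hjb]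
  · intro x
    simp [hea, heb]
  · intro x
    simp [hab]
  · intro x1 x2 x3 j
    beta_reduce
    split_ifs <;> ring

/-- PIECE A2 -/
theorem agl_dense {ι : Type*} [Fintype ι] [DecidableEq ι] [Fintype K] (hq : 5 ≤ Fintype.card K)
    (hι : 3 ≤ Fintype.card ι) (X : Subgroup (GL ι K)) (hX : MonLE X)
    (g : GL ι K) (hg : g ∈ X) (hd : ∀ i j, g.1 i j ≠ 0) :
    ∃ g' ∈ X, ¬ IsMono g'.1 ∧ ∃ i l, g'.1 i l = 0 := by
  by_contra hcon
  have hhg : g⁻¹.1 * g.1 = 1 := Units.inv_mul g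
  have hgh : g.1 * g⁻¹.1 = 1 := Units.mul_inv g
  obtain ⟨i0, r0, -, hr0, -⟩ : ∃ a b c : ι, a ≠ b ∧ a ≠ c ∧ b ≠ c :=
    Fintype.two_lt_card_iff.1 (by omega)
  obtain ⟨a, ha⟩ : ∃ a, g⁻¹.1 i0 a ≠ 0 := by
    by_contra hne
    push Not at hne
    have h1 : (g⁻¹.1 * g.1) i0 i0 = 1 := by rw [hhg, Matrix.one_apply_eq]
    rw [Matrix.mul_apply, Finset.sum_eq_zero (fun j _ => by rw [hne j, zero_mul])] at h1
    exact zero_ne_one h1
  obtain ⟨b, hba, hb⟩ : ∃ b, b ≠ a ∧ g⁻¹.1 i0 b ≠ 0 := by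
    by_contra hne
    push Not at hne
    have h1 : (g⁻¹.1 * g.1) i0 r0 = 0 := by rw [hhg, Matrix.one_apply_ne hr0]
    rw [Matrix.mul_apply, Finset.sum_eq_single a (fun j _ hj => by rw [hne j hj, zero_mul])
      (fun h => absurd (Finset.mem_univ _) h)] at h1
    exact mul_ne_zero ha (hd a r0) h1
  obtain ⟨e, hea, heb⟩ := exists_ne_ne hι a b
  obtain ⟨ω, p, q, hF1, hF2, hωe, hωa, hF4⟩ :=
    exists_family (fun j => g⁻¹.1 i0 j) a b e (Ne.symm hba) hea heb ha hb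
  have claim : ∀ x, x ≠ p → x ≠ q → ∃ (r : ι) (c : K), ∀ j, ω x j = c * g.1 j r := by
    intro x hxp hxq
    have hω0 := hF2 x hxp hxq
    have hd' : ∀ j, (fun j => ω x j / g.1 j i0) j ≠ 0 := fun j => div_ne_zero (hω0 j) (hd j i0)
    obtain ⟨Dg, hDg, hDgval⟩ := inX_diag X hX _ hd'
    have hg' : g⁻¹ * Dg * g ∈ X := X.mul_mem (X.mul_mem (X.inv_mem hg) hDg) hg
    have hval : (g⁻¹ * Dg * g).1 = g⁻¹.1 * Matrix.diagonal (fun j => ω x j / g.1 j i0) * g.1 := by
      rw [← hDgval]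
      rfl
    have hentry : ∀ i, (g⁻¹ * Dg * g).1 i i0 = ∑ j, g⁻¹.1 i j * ω x j := by
      intro i
      rw [hval, Matrix.mul_apply]
      apply Finset.sum_congr rfl
      intro j _
      rw [Matrix.mul_diagonal, mul_assoc, div_mul_cancel₀ _ (hd j i0)]
    by_cases hm : IsMono (g⁻¹ * Dg * g).1
    · obtain ⟨σ, hσ⟩ := hm
      have key : ∀ j, ω x j = ∑ i, g.1 j i * (g⁻¹ * Dg * g).1 i i0 := by
        intro j
        have e1 : ∀ i, g.1 j i * (g⁻¹ * Dg * g).1 i i0 = ∑ k, g.1 j i * g⁻¹.1 i k * ω x k := by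
          intro i
          rw [hentry, Finset.mul_sum]
          apply Finset.sum_congr rfl
          intro k _
          ring
        simp only [e1]
        rw [Finset.sum_comm]
        have e2 : ∀ k, ∑ i, g.1 j i * g⁻¹.1 i k * ω x k = (if j = k then ω x k else 0) := by
          intro k
          rw [← Finset.sum_mul, ← Matrix.mul_apply, hgh, Matrix.one_apply]
          split_ifs <;> simp
        simp only [e2]
        simp
      refine ⟨σ i0, (g⁻¹ * Dg * g).1 (σ i0) i0, ?_⟩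
      intro j
      rw [key j, Finset.sum_eq_single (σ i0)]
      · ring
      · intro i _ hi
        rw [hσ i i0 hi, mul_zero]
      · intro h
        exact absurd (Finset.mem_univ _) h
    · exact absurd ⟨g⁻¹ * Dg * g, hg', hm, i0, i0, by rw [hentry]; exact hF1 x⟩ hcon
  have hdist : ∀ (x x' : K) (r r' : ι) (c c' : K), (∀ j, ω x j = c * g.1 j r) →
      (∀ j, ω x' j = c' * g.1 j r') → x ≠ x' → r ≠ r' := by
    intro x x' r r' c c' h1 h2 hxx hrr
    subst hrr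
    apply hxx
    have e1 : c * g.1 e r = 1 := by rw [← h1 e, hωe]
    have e2 : c' * g.1 e r = 1 := by rw [← h2 e, hωe]
    have hcc : c = c' := mul_right_cancel₀ (hd e r) (e1.trans e2.symm)
    have e3 : ω x a = ω x' a := by rw [h1 a, h2 a, hcc]
    rw [hωa, hωa] at e3
    exact add_left_cancel e3
  obtain ⟨x1, x2, x3, h12, h13, h23, h1p, h1q, h2p, h2q, h3p, h3q⟩ := exists_three (K := K) hq p q
  obtain ⟨r1, c1, hc1⟩ := claim x1 h1p h1q
  obtain ⟨r2, c2, hc2⟩ := claim x2 h2p h2q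
  obtain ⟨r3, c3, hc3⟩ := claim x3 h3p h3q
  have hr12 := hdist x1 x2 r1 r2 c1 c2 hc1 hc2 h12
  have hr13 := hdist x1 x3 r1 r3 c1 c3 hc1 hc3 h13
  have hrel : ∀ j, (x2 - x3) * c1 * g.1 j r1 + (x3 - x1) * c2 * g.1 j r2 +
      (x1 - x2) * c3 * g.1 j r3 = 0 := by
    intro j
    have h := hF4 x1 x2 x3 j
    rw [hc1 j, hc2 j, hc3 j] at h
    linear_combination h
  have hzero := col_indep g⁻¹.1 g.1 hhg r1 r2 r3 hr12 hr13 _ _ _ hrel
  have hc1ne : c1 ≠ 0 := by
    intro h0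
    have e1 : c1 * g.1 e r1 = 1 := by rw [← hc1 e, hωe]
    rw [h0, zero_mul] at e1
    exact zero_ne_one e1
  rcases mul_eq_zero.1 hzero with h | h
  · exact h23 (sub_eq_zero.1 h)
  · exact hc1ne h

end Cfsg.Agent.Helper58.C2A2
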