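import Mathlib
import Cfsg.Agent.Helper98.C2Defs
import Cfsg.Agent.Helper58.C2L

/-!
# CALL S5634 piece LS (seat helper58): lifting from the quotient by the first coordinate line,
for overgroups of the monomial matrices of determinant one.
-/

set_option autoImplicit false

namespace Cfsg.Agent.Helper58.C2LS

open Matrix Cfsg.Agent.Helper98.C2 Cfsg.Agent.Helper58.C2L
open scoped MatrixGroups

variable {K : Type*} [Field K]

theorem exists_unit_sq_ne_one [Fintype K] (hq : 5 ≤ Fintype.card K) :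
    ∃ lam : K, lam ≠ 0 ∧ lam ≠ 1 ∧ lam ≠ -1 := by
  classical
  have hlt : ({0, 1, -1} : Finset K).card < (Finset.univ : Finset K).card := by
    have h2 : ({0, 1, -1} : Finset K).card ≤ 3 := Finset.card_le_three
    rw [Finset.card_univ]
    omega
  obtain ⟨ε, -, hε⟩ := Finset.exists_mem_notMem_of_card_lt_card hlt
  simp only [Finset.mem_insert, Finset.mem_singleton, not_or] at hε
  exact ⟨ε, hε.1, hε.2.1, hε.2.2⟩

theorem det_of_col_zero {m : ℕ} (A : Matrix (Fin (m + 1)) (Fin (m + 1)) K)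
    (h0 : ∀ i, i ≠ 0 → A i 0 = 0) : A.det = A 0 0 * (A.submatrix Fin.succ Fin.succ).det := by
  rw [Matrix.det_succ_column_zero, Finset.sum_eq_single 0]
  · simp
  · intro i _ hi
    rw [h0 i hi]
    simp
  · intro h
    exact absurd (Finset.mem_univ _) h

/-- PIECE LS (1) -/
theorem lift_tv_sl [Fintype K] (hq : 5 ≤ Fintype.card K) (m : ℕ) (hm : 3 ≤ m)
    (M : Subgroup (GL (Fin (m + 1)) K)) (hH : MonSLLE M)
    (k : GL (Fin (m + 1)) K) (hk : k ∈ M) (hdet : k.1.det = 1)
    (hk0 : ∀ i, i ≠ 0 → k.1 i 0 = 0)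
    (a b : Fin m) (hab : a ≠ b) (c : K) (hc : c ≠ 0)
    (hblk : k.1.submatrix Fin.succ Fin.succ = Matrix.transvection a b c) : HasTv M := by
  have hk00 : k.1 0 0 = 1 := by
    have h := det_of_col_zero k.1 hk0
    rw [hdet, hblk, Matrix.det_transvection_of_ne _ _ hab, mul_one] at h
    exact h.symm
  have hcard : 3 ≤ Fintype.card (Fin m) := by
    rw [Fintype.card_fin]
    exact hm
  obtain ⟨e, hea, heb⟩ := exists_ne_ne hcard a b
  obtain ⟨lam, hl0, hl1, hl2⟩ := exists_unit_sq_ne_one (K := K) hq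
  have hes : e.succ ≠ 0 := Fin.succ_ne_zero e
  have hd : ∀ i, (fun i : Fin (m + 1) => if i = 0 then lam else if i = e.succ then lam⁻¹ else 1) i
      ≠ 0 := by
    intro i
    by_cases hi : i = 0
    · simp [hi, hl0]
    · by_cases hi' : i = e.succ
      · subst hi'
        simp [hes, hl0]
      · simp [hi, hi']
  have hprod : ∏ i, (fun i : Fin (m + 1) => if i = 0 then lam else
      if i = e.succ then lam⁻¹ else 1) i = 1 := by
    rw [Fintype.prod_eq_mul 0 e.succ (Ne.symm hes)]
    · simp [hes, hl0]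
    · intro x hx
      simp [hx.1, hx.2]
  have hD := inX_diag_sl M hH _ hprod
  have hlinv : lam⁻¹ ≠ lam := by
    intro h
    have h1 : lam * lam = 1 := by
      have h0 : lam⁻¹ * lam = 1 := inv_mul_cancel₀ hl0
      rw [h] at h0
      exact h0
    have h2 : (lam - 1) * (lam + 1) = 0 := by linear_combination h1
    rcases mul_eq_zero.1 h2 with h3 | h3
    · exact hl1 (by linear_combination h3)
    · exact hl2 (by linear_combination h3)
  rcases tv_block M k hk hk00 hk0 a b hab c hblk _ hd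
    (by
      have h1 : a.succ ≠ e.succ := fun h => hea (Fin.succ_injective _ h).symm
      have h2 : b.succ ≠ e.succ := fun h => heb (Fin.succ_injective _ h).symm
      simp [Fin.succ_ne_zero a, Fin.succ_ne_zero b, h1, h2])
    (by
      intro l hl
      by_cases hl' : l = e.succ
      · subst hl'
        simp [hes]
        exact hlinv
      · simp [hl, hl']
        exact fun h => hl1 h.symm) hD with h | ⟨v, hv0, hv, hvX⟩
  · exact ⟨k, hk, a.succ, b.succ, fun h => hab (Fin.succ_injective _ h), c, hc, h⟩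
  · exact sparsify_sl (by omega) hm M hH v hv0 hv hvX

/-- PIECE LS (2) -/
theorem lift_mono_sl [Fintype K] (hq : 5 ≤ Fintype.card K) (m : ℕ) (hm : 3 ≤ m)
    (M : Subgroup (GL (Fin (m + 1)) K)) (hH : MonSLLE M)
    (k : GL (Fin (m + 1)) K) (hk : k ∈ M) (hdet : k.1.det = 1)
    (hk0 : ∀ i, i ≠ 0 → k.1 i 0 = 0)
    (hblk : IsMono (k.1.submatrix Fin.succ Fin.succ)) (hkm : ¬ IsMono k.1) : HasTv M := by
  obtain ⟨v, hv0, hv, hmono⟩ := mono_block k hk0 hblk hkm
  have hdetW : (k * rowGL v hv0).1.det = 1 := by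
    have h1 : (k * rowGL v hv0).1 = k.1 * rowMat v := rfl
    rw [h1, Matrix.det_mul, hdet, det_rowMat v hv0, mul_one]
  have hW : k * rowGL v hv0 ∈ M := hH _ hmono hdetW
  have hvX : InX M (rowMat v) := by
    refine ⟨k⁻¹ * (k * rowGL v hv0), M.mul_mem (M.inv_mem hk) hW, ?_⟩
    rw [inv_mul_cancel_left]
    rfl
  exact sparsify_sl (by omega) hm M hH v hv0 hv hvX

end Cfsg.Agent.Helper58.C2LS
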