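import Mathlib
import Cfsg.Agent.Helper58.Dihedral

/-!
# Prime degree, Sylow normaliser of order `p (p - 1) / 2`, `p ≡ 3 mod 4`: coordinates at a point (helper58)

`exists_half_coords_neg` is `exists_half_coords` (file `HalfNorm`) with the extra information that no
element of `G` acts as `j ↦ -j`; `exists_half_coords_at` moreover puts a prescribed point at `e 0`.
-/

set_option autoImplicit false

namespace Cfsg.Agent.Helper58

theorem exists_half_coords_neg {G α : Type*} [Group G] [Finite G] [Fintype α] [MulAction G α]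
    [FaithfulSMul G α] [MulAction.IsPretransitive G α] {p : ℕ} [Fact p.Prime]
    (hα : Fintype.card α = p) (hp3 : p % 4 = 3) (P : Sylow p G)
    (hN : 2 * Nat.card (Subgroup.normalizer ((P : Subgroup G) : Set G)) = p * (p - 1)) :
    ∃ (t : G) (e : ZMod p ≃ α), (∀ j : ZMod p, t • e j = e (j + 1)) ∧
      (¬ ∃ g : G, ∀ j : ZMod p, g • e j = e (-j)) ∧
      ∀ d : ZMod p, d ≠ 0 → ∃ (g : G) (a : ZMod p),
        (∀ j : ZMod p, g • e j = e (a * j)) ∧ (d = a ∨ d = -a) := by
  classical
  have hp : p.Prime := Fact.out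
  have hne : Nonempty α := by
    rw [← Fintype.card_pos_iff, hα]
    exact hp.pos
  obtain ⟨a₀⟩ := hne
  have h2ne : (2 : ZMod p) ≠ 0 := by
    intro h
    have h' : ((2 : ℕ) : ZMod p) = 0 := by exact_mod_cast h
    rw [ZMod.natCast_eq_zero_iff] at h'
    have := Nat.le_of_dvd (by norm_num) h'
    have := hp.two_le
    omega
  -- `|P| = p`
  have hpdvd : p ∣ Nat.card G := by
    have h1 := MulAction.index_stabilizer_of_transitive G a₀
    rw [Nat.card_eq_fintype_card, hα] at h1
    rw [← h1]
    exact Subgroup.index_dvd_card _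
  have hsq : ¬ p ^ 2 ∣ Nat.card G := by
    intro h
    have h1 : Nat.card G ∣ Nat.card (Equiv.Perm α) :=
      Subgroup.card_dvd_of_injective (MulAction.toPermHom G α) MulAction.toPerm_injective
    rw [Nat.card_eq_fintype_card (α := Equiv.Perm α), Fintype.card_perm, hα] at h1
    have h2 : p ^ 2 ∣ p.factorial := dvd_trans h h1
    obtain ⟨k, hk⟩ : ∃ k, p = k + 1 := ⟨p - 1, by have := hp.pos; omega⟩
    rw [hk, Nat.factorial_succ, ← hk, pow_two] at h2
    have h3 : p ∣ k.factorial := Nat.dvd_of_mul_dvd_mul_left hp.pos h2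
    have h4 := (Nat.Prime.dvd_factorial hp).mp h3
    omega
  have hcardP : Nat.card (P : Subgroup G) = p := by
    obtain ⟨k, hk⟩ := IsPGroup.iff_card.mp P.isPGroup'
    have h1 : p ∣ Nat.card (P : Subgroup G) := P.dvd_card_of_dvd_card hpdvd
    have h2 : Nat.card (P : Subgroup G) ∣ Nat.card G := Subgroup.card_subgroup_dvd_card _
    have hk1 : k ≠ 0 := by
      rintro rfl
      rw [hk, pow_zero] at h1
      exact hp.one_lt.ne' (Nat.dvd_one.mp h1)
    have hk2 : k < 2 := by
      by_contra hge
      push Not at hge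
      apply hsq
      exact dvd_trans (pow_dvd_pow p hge) (hk ▸ h2)
    have : k = 1 := by omega
    rw [hk, this, pow_one]
  obtain ⟨x, hx⟩ := exists_prime_orderOf_dvd_card' (G := (P : Subgroup G)) p (by rw [hcardP])
  have htop : Subgroup.zpowers x = ⊤ := by
    apply Subgroup.eq_top_of_card_eq
    rw [Nat.card_zpowers, hx, hcardP]
  set t : G := (x : G) with ht
  have hot : orderOf (MulAction.toPerm t : Equiv.Perm α) = p := by
    have h1 := orderOf_injective (MulAction.toPermHom G α) MulAction.toPerm_injective t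
    rw [MulAction.toPermHom_apply] at h1
    rw [h1, ht, Subgroup.orderOf_coe, hx]
  obtain ⟨e, he'⟩ := cycle_equiv_of_orderOf hα (MulAction.toPerm t) hot
  have he : ∀ j : ZMod p, t • e j = e (j + 1) := he'
  have htpow : ∀ (n : ℕ) (j : ZMod p), t ^ n • e j = e (j + (n : ZMod p)) := by
    intro n
    induction n with
    | zero => intro j; simp
    | succ n ih =>
      intro j
      rw [pow_succ', mul_smul, ih, he]
      congr 1
      push_cast
      ring
  have htP : t ∈ (P : Subgroup G) := x.2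
  -- `P` consists of powers of `t`
  have hPpow : ∀ y : G, y ∈ (P : Subgroup G) → ∃ m : ℕ, y = t ^ m := by
    intro y hy
    have hmem : (⟨y, hy⟩ : (P : Subgroup G)) ∈ Subgroup.zpowers x := by
      rw [htop]
      exact Subgroup.mem_top _
    rw [← (isOfFinOrder_of_finite x).mem_powers_iff_mem_zpowers, Submonoid.mem_powers_iff] at hmem
    obtain ⟨m, hm⟩ := hmem
    refine ⟨m, ?_⟩
    have h1 := congrArg (fun y : (P : Subgroup G) => (y : G)) hm
    simp only [Subgroup.coe_pow] at h1
    exact h1.symm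
  -- the multipliers realised in `G`
  let S : Finset (ZMod p) :=
    Finset.univ.filter (fun a => ∃ g : G, ∀ j : ZMod p, g • e j = e (a * j))
  have hS : ∀ a, a ∈ S ↔ ∃ g : G, ∀ j : ZMod p, g • e j = e (a * j) := by
    intro a
    simp [S]
  have hS0 : (0 : ZMod p) ∉ S := by
    rw [hS]
    rintro ⟨g, hg⟩
    have h0 := hg 0
    have h1 := hg 1
    rw [zero_mul] at h0 h1
    have := MulAction.injective g (h0.trans h1.symm)
    exact zero_ne_one (e.injective this)
  have hSmul : ∀ a b, a ∈ S → b ∈ S → a * b ∈ S := by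
    intro a b ha hb
    rw [hS] at ha hb ⊢
    obtain ⟨g, hg⟩ := ha
    obtain ⟨g', hg'⟩ := hb
    exact ⟨g * g', fun j => by rw [mul_smul, hg', hg, mul_assoc]⟩
  have hSinv : ∀ a, a ∈ S → a⁻¹ ∈ S := by
    intro a ha
    have ha0 : a ≠ 0 := fun h => hS0 (h ▸ ha)
    rw [hS] at ha ⊢
    obtain ⟨g, hg⟩ := ha
    refine ⟨g⁻¹, fun j => ?_⟩
    rw [inv_smul_eq_iff, hg, mul_inv_cancel_left₀ ha0]
  have hNodd : ¬ 2 ∣ Nat.card (Subgroup.normalizer ((P : Subgroup G) : Set G)) := by
    rintro ⟨k, hk⟩
    rw [hk] at hN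
    obtain ⟨m, hm⟩ : ∃ m, p = 4 * m + 3 := ⟨p / 4, by omega⟩
    have h1 : p * (p - 1) = 4 * (4 * (m * m) + 5 * m + 1) + 2 := by
      have : p - 1 = 4 * m + 2 := by omega
      rw [this, hm]
      ring
    omega
  have hSneg : (-1 : ZMod p) ∉ S := by
    rw [hS]
    rintro ⟨g, hg⟩
    have hg' : ∀ j : ZMod p, g • e j = e (-j) := fun j => by rw [hg, neg_one_mul]
    have hgg : g * g = 1 := by
      apply FaithfulSMul.eq_of_smul_eq_smul (α := α)
      intro y
      obtain ⟨j, rfl⟩ := e.surjective y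
      rw [mul_smul, hg', hg', neg_neg, one_smul]
    have hginv : g⁻¹ = g := inv_eq_of_mul_eq_one_right hgg
    have hg1 : g ≠ 1 := by
      intro h
      have h1 := hg' 1
      rw [h, one_smul] at h1
      have h3 : (1 : ZMod p) = -1 := e.injective h1
      apply h2ne
      linear_combination h3
    have hconj : g * t * g⁻¹ = t⁻¹ := by
      apply FaithfulSMul.eq_of_smul_eq_smul (α := α)
      intro y
      obtain ⟨j, rfl⟩ := e.surjective y
      rw [hginv, mul_smul, mul_smul, hg', he, hg', eq_comm, inv_smul_eq_iff, he]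
      congr 1
      ring
    have hfwd : ∀ y : G, y ∈ (P : Subgroup G) → g * y * g⁻¹ ∈ (P : Subgroup G) := by
      intro y hy
      obtain ⟨m, rfl⟩ := hPpow y hy
      rw [← conj_pow, hconj]
      exact Subgroup.pow_mem _ (Subgroup.inv_mem _ htP) m
    have hgN : g ∈ Subgroup.normalizer ((P : Subgroup G) : Set G) := by
      rw [Subgroup.mem_normalizer_iff]
      intro y
      refine ⟨hfwd y, fun h => ?_⟩
      have h1 := hfwd _ h
      have h2 : g * (g * y * g⁻¹) * g⁻¹ = y := by
        rw [hginv]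
        calc g * (g * y * g) * g = (g * g) * y * (g * g) := by group
          _ = y := by rw [hgg, one_mul, mul_one]
      rwa [h2] at h1
    have ho : orderOf (⟨g, hgN⟩ : Subgroup.normalizer ((P : Subgroup G) : Set G)) = 2 := by
      apply orderOf_eq_prime
      · apply Subtype.ext
        show g ^ 2 = 1
        rw [pow_two, hgg]
      · intro h
        exact hg1 (congrArg Subtype.val h)
    apply hNodd
    rw [← ho]
    exact orderOf_dvd_natCard _
  -- elements of the normaliser are affine
  have hform : ∀ n : G, n ∈ Subgroup.normalizer ((P : Subgroup G) : Set G) →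
      ∃ (c k : ZMod p), k ∈ S ∧ ∀ j : ZMod p, n • e j = e (c + k * j) := by
    intro n hn
    have h1 : n * t * n⁻¹ ∈ (P : Subgroup G) := (Subgroup.mem_normalizer_iff.mp hn t).mp htP
    obtain ⟨m, hm⟩ := hPpow _ h1
    obtain ⟨c, hc⟩ : ∃ c, n • e 0 = e c := ⟨e.symm _, (e.apply_symm_apply _).symm⟩
    have hnj : ∀ j : ZMod p, n • e j = e (c + (m : ZMod p) * j) := by
      intro j
      have h2 : e j = t ^ j.val • e 0 := by
        rw [htpow, zero_add, ZMod.natCast_zmod_val]
      have h3 : n * t ^ j.val = (t ^ m) ^ j.val * n := by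
        rw [← hm, conj_pow]
        group
      rw [h2, ← mul_smul, h3, mul_smul, ← pow_mul, hc, htpow]
      congr 1
      push_cast
      rw [ZMod.natCast_zmod_val]
    refine ⟨c, (m : ZMod p), ?_, hnj⟩
    rw [hS]
    refine ⟨t ^ (-c).val * n, fun j => ?_⟩
    rw [mul_smul, hnj, htpow, ZMod.natCast_zmod_val]
    congr 1
    ring
  have hcardN : Nat.card (Subgroup.normalizer ((P : Subgroup G) : Set G)) ≤ p * S.card := by
    letI : Fintype (Subgroup.normalizer ((P : Subgroup G) : Set G)) := Fintype.ofFinite _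
    let f : Subgroup.normalizer ((P : Subgroup G) : Set G) → ZMod p × ZMod p :=
      fun n => (e.symm ((n : G) • e 0), e.symm ((n : G) • e 1) - e.symm ((n : G) • e 0))
    have hf : Function.Injective f := by
      intro n n' h
      obtain ⟨c, k, -, hn⟩ := hform n n.2
      obtain ⟨c', k', -, hn'⟩ := hform n' n'.2
      have h1 : e.symm ((n : G) • e 0) = e.symm ((n' : G) • e 0) := congrArg Prod.fst h
      have h2 : e.symm ((n : G) • e 1) - e.symm ((n : G) • e 0) =
          e.symm ((n' : G) • e 1) - e.symm ((n' : G) • e 0) := congrArg Prod.snd h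
      simp only [hn, hn', Equiv.symm_apply_apply] at h1 h2
      have hc : c = c' := by linear_combination h1
      have hk : k = k' := by linear_combination h2
      apply Subtype.ext
      apply FaithfulSMul.eq_of_smul_eq_smul (α := α)
      intro y
      obtain ⟨j, rfl⟩ := e.surjective y
      rw [hn, hn', hc, hk]
    have hsub : Finset.univ.image f ⊆ Finset.univ ×ˢ S := by
      intro q hq
      rw [Finset.mem_image] at hq
      obtain ⟨n, -, rfl⟩ := hq
      rw [Finset.mem_product]
      refine ⟨Finset.mem_univ _, ?_⟩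
      obtain ⟨c, k, hk, hn⟩ := hform n n.2
      have h3 : e.symm ((n : G) • e 1) - e.symm ((n : G) • e 0) = k := by
        rw [hn, hn, Equiv.symm_apply_apply, Equiv.symm_apply_apply]
        ring
      show e.symm ((n : G) • e 1) - e.symm ((n : G) • e 0) ∈ S
      rw [h3]
      exact hk
    have h1 := Finset.card_le_card hsub
    rw [Finset.card_image_of_injective _ hf, Finset.card_product, Finset.card_univ,
      Finset.card_univ, ZMod.card] at h1
    rw [Nat.card_eq_fintype_card]
    exact h1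
  have hSlow : p - 1 ≤ 2 * S.card := by
    have h1 : p * (p - 1) ≤ p * (2 * S.card) := by
      rw [← hN]
      calc 2 * Nat.card (Subgroup.normalizer ((P : Subgroup G) : Set G))
          ≤ 2 * (p * S.card) := Nat.mul_le_mul_left 2 hcardN
        _ = p * (2 * S.card) := by ring
    exact Nat.le_of_mul_le_mul_left h1 hp.pos
  let T : Finset (ZMod p) := S.image (fun a => -a)
  have hT : ∀ d, d ∈ T ↔ ∃ b ∈ S, -b = d := by
    intro d
    simp [T]
  have hdisj : Disjoint S T := by
    rw [Finset.disjoint_left]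
    intro a ha haT
    rw [hT] at haT
    obtain ⟨b, hb, hba⟩ := haT
    have hb0 : b ≠ 0 := fun h => hS0 (h ▸ hb)
    apply hSneg
    have h1 : (-1 : ZMod p) = a * b⁻¹ := by
      rw [← hba]
      field_simp
    rw [h1]
    exact hSmul _ _ ha (hSinv _ hb)
  have hTcard : T.card = S.card := Finset.card_image_of_injective _ neg_injective
  have hsub : S ∪ T ⊆ Finset.univ.erase 0 := by
    intro d hd
    rw [Finset.mem_erase]
    refine ⟨?_, Finset.mem_univ _⟩
    rintro rfl
    rw [Finset.mem_union] at hd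
    rcases hd with hd | hd
    · exact hS0 hd
    · rw [hT] at hd
      obtain ⟨b, hb, hb0⟩ := hd
      rw [neg_eq_zero] at hb0
      exact hS0 (hb0 ▸ hb)
  have heq : S ∪ T = Finset.univ.erase 0 := by
    apply Finset.eq_of_subset_of_card_le hsub
    rw [Finset.card_union_of_disjoint hdisj, hTcard, Finset.card_erase_of_mem (Finset.mem_univ _),
      Finset.card_univ, ZMod.card]
    omega
  refine ⟨t, e, he, ?_, fun d hd => ?_⟩
  · rintro ⟨g, hg⟩
    exact hSneg ((hS (-1)).mpr ⟨g, fun j => by rw [hg, neg_one_mul]⟩)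
  have hd' : d ∈ S ∪ T := by
    rw [heq]
    exact Finset.mem_erase.mpr ⟨hd, Finset.mem_univ _⟩
  rw [Finset.mem_union] at hd'
  rcases hd' with h | h
  · obtain ⟨g, hg⟩ := (hS d).mp h
    exact ⟨g, d, hg, Or.inl rfl⟩
  · obtain ⟨b, hb, hbd⟩ := (hT d).mp h
    obtain ⟨g, hg⟩ := (hS b).mp hb
    exact ⟨g, b, hg, Or.inr hbd.symm⟩


theorem exists_half_coords_at {G α : Type*} [Group G] [Finite G] [Fintype α] [MulAction G α]
    [FaithfulSMul G α] [MulAction.IsPretransitive G α] {p : ℕ} [Fact p.Prime]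
    (hα : Fintype.card α = p) (hp3 : p % 4 = 3) (P : Sylow p G)
    (hN : 2 * Nat.card (Subgroup.normalizer ((P : Subgroup G) : Set G)) = p * (p - 1)) (a₀ : α) :
    ∃ (t : G) (e : ZMod p ≃ α), e 0 = a₀ ∧ (∀ j : ZMod p, t • e j = e (j + 1)) ∧
      (¬ ∃ g : G, ∀ j : ZMod p, g • e j = e (-j)) ∧
      ∀ d : ZMod p, d ≠ 0 → ∃ (g : G) (a : ZMod p),
        (∀ j : ZMod p, g • e j = e (a * j)) ∧ (d = a ∨ d = -a) := by
  obtain ⟨t, e, het, hneg, hA⟩ := exists_half_coords_neg hα hp3 P hN
  set j₀ : ZMod p := e.symm a₀ with hj₀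
  have htpow : ∀ (n : ℕ) (j : ZMod p), t ^ n • e j = e (j + (n : ZMod p)) := by
    intro n
    induction n with
    | zero => intro j; simp
    | succ n ih =>
      intro j
      rw [pow_succ', mul_smul, ih, het]
      congr 1
      push_cast
      ring
  have hs1 : ∀ j : ZMod p, t ^ j₀.val • e j = e (j + j₀) := by
    intro j
    rw [htpow, ZMod.natCast_zmod_val]
  have hs2 : ∀ j : ZMod p, (t ^ j₀.val)⁻¹ • e j = e (j - j₀) := by
    intro j
    rw [inv_smul_eq_iff, hs1, sub_add_cancel]
  refine ⟨t, (Equiv.addRight j₀).trans e, ?_, ?_, ?_, ?_⟩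
  · show e (0 + j₀) = a₀
    rw [zero_add, hj₀, Equiv.apply_symm_apply]
  · intro j
    show t • e (j + j₀) = e (j + 1 + j₀)
    rw [het]
    congr 1
    ring
  · rintro ⟨g, hg⟩
    apply hneg
    refine ⟨(t ^ j₀.val)⁻¹ * g * t ^ j₀.val, fun j => ?_⟩
    have hg' : g • e (j + j₀) = e (-j + j₀) := hg j
    rw [mul_smul, mul_smul, hs1, hg', hs2, add_sub_cancel_right]
  · intro d hd
    obtain ⟨g, a, hg, hda⟩ := hA d hd
    refine ⟨t ^ j₀.val * g * (t ^ j₀.val)⁻¹, a, fun j => ?_, hda⟩
    show (t ^ j₀.val * g * (t ^ j₀.val)⁻¹) • e (j + j₀) = e (a * j + j₀)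
    rw [mul_smul, mul_smul, hs2, add_sub_cancel_right, hg, hs1]

end Cfsg.Agent.Helper58
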