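import Mathlib
import Cfsg.Agent.Helper64.LW2Defs

/-! # CALL S0745 piece B46 (seat helper58) -/

set_option autoImplicit false
set_option linter.unusedSectionVars false

namespace Cfsg.Agent.Helper58.LW2B46

open Cfsg.Agent.Lead.LW Cfsg.Agent.Helper64.LW2

variable {α : Type*} [Fintype α] [DecidableEq α]

-- PIECE B46
theorem ktrans_one_of_homog_two (G : Subgroup (Equiv.Perm α)) (h3 : 3 ≤ Fintype.card α)
    (hG : Homog G 2) : KTrans G 1 := by
  intro x y
  by_cases hxy : x 0 = y 0
  · refine ⟨1, G.one_mem, fun i => ?_⟩
    have hi : i = 0 := Subsingleton.elim _ _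
    subst hi
    exact hxy
  · obtain ⟨c, hc⟩ : ∃ c, c ∉ ({x 0, y 0} : Finset α) := by
      by_contra hcon
      push Not at hcon
      have hsub : (Finset.univ : Finset α) ⊆ {x 0, y 0} := fun c _ => hcon c
      have h1 := Finset.card_le_card hsub
      rw [Finset.card_univ] at h1
      have h2 : ({x 0, y 0} : Finset α).card ≤ 2 := Finset.card_le_two
      omega
    rw [Finset.mem_insert, Finset.mem_singleton, not_or] at hc
    have hS : ({x 0, c} : Finset α).card = 2 := Finset.card_pair (fun e => hc.1 e.symm)
    have hT : ({y 0, c} : Finset α).card = 2 := Finset.card_pair (fun e => hc.2 e.symm)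
    obtain ⟨g, hg, hmap⟩ := hG _ _ hS hT
    have h1 : g (x 0) ∈ ({y 0, c} : Finset α) := (hmap _).mpr (by simp)
    have h2 : g c ∈ ({y 0, c} : Finset α) := (hmap _).mpr (by simp)
    rw [Finset.mem_insert, Finset.mem_singleton] at h1 h2
    rcases h1 with h1 | h1
    · refine ⟨g, hg, fun i => ?_⟩
      have hi : i = 0 := Subsingleton.elim _ _
      subst hi
      exact h1
    · have h4 : g c = y 0 := by
        rcases h2 with h2 | h2
        · exact h2
        · exfalso
          have := g.injective (h1.trans h2.symm)
          exact hc.1 this.symm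
      refine ⟨g * g, G.mul_mem hg hg, fun i => ?_⟩
      have hi : i = 0 := Subsingleton.elim _ _
      subst hi
      rw [Equiv.Perm.mul_apply, h1, h4]

end Cfsg.Agent.Helper58.LW2B46
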