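import Mathlib
import Cfsg.Agent.Helper64.LW2Defs

/-! # CALL S0745 piece S8a (seat helper58) -/

set_option autoImplicit false
set_option linter.unusedSectionVars false

namespace Cfsg.Agent.Helper58.LW2S8a

open Cfsg.Agent.Lead.LW Cfsg.Agent.Helper64.LW2

variable {α : Type*} [Fintype α] [DecidableEq α]

-- PIECE S8a
theorem alt_le_induced_of_homog (G : Subgroup (Equiv.Perm α)) (j : ℕ) (hG : Homog G j)
    (Δ₀ : Finset α) (hΔ₀ : Δ₀.card = j)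
    (h₀ : ∀ σ : Equiv.Perm ↥Δ₀, σ ∈ alternatingGroup ↥Δ₀ → ∃ g ∈ G, ∀ x : ↥Δ₀, g (x : α) = σ x)
    (Δ : Finset α) (hΔ : Δ.card = j) : alternatingGroup ↥Δ ≤ induced G Δ := by
  intro σ hσ
  obtain ⟨h, hh, hmap⟩ := hG Δ₀ Δ hΔ₀ hΔ
  obtain ⟨e, he⟩ : ∃ e : ↥Δ₀ ≃ ↥Δ, ∀ x : ↥Δ₀, ((e x : ↥Δ) : α) = h x :=
    ⟨{ toFun := fun x => ⟨h x, (hmap x).mpr x.2⟩
       invFun := fun y => ⟨h⁻¹ y, (hmap _).mp (by simp)⟩
       left_inv := fun x => Subtype.ext (by simp)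
       right_inv := fun y => Subtype.ext (by simp) }, fun _ => rfl⟩
  have hσ₀ : (e.trans σ).trans e.symm ∈ alternatingGroup ↥Δ₀ := by
    rw [Equiv.Perm.mem_alternatingGroup] at hσ ⊢
    rw [Equiv.Perm.sign_trans_trans_symm]
    exact hσ
  obtain ⟨g₀, hg₀, hg₀'⟩ := h₀ _ hσ₀
  refine ⟨h * g₀ * h⁻¹, G.mul_mem (G.mul_mem hh hg₀) (G.inv_mem hh), fun x => ?_⟩
  simp only [Equiv.Perm.mul_apply]
  -- `x = e y`
  obtain ⟨y, rfl⟩ := e.surjective x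
  have hy : h⁻¹ ((e y : ↥Δ) : α) = y := by rw [he]; simp
  rw [hy, hg₀' y, Equiv.trans_apply, Equiv.trans_apply, ← he, Equiv.apply_symm_apply]

end Cfsg.Agent.Helper58.LW2S8a
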