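import Mathlib
import Cfsg.Agent.Helper64.LW2Defs

/-! # CALL S0745 piece S8b (seat helper58) -/

set_option autoImplicit false
set_option linter.unusedSectionVars false

namespace Cfsg.Agent.Helper58.LW2S8b

open Cfsg.Agent.Lead.LW Cfsg.Agent.Helper64.LW2

variable {α : Type*} [Fintype α] [DecidableEq α]

-- PIECE S8b
theorem exists_swap_of_even (G : Subgroup (Equiv.Perm α)) (Γ : Finset α) (hΓ : 1 ≤ Γ.card)
    (heven : Even (Nat.card (pstab G Γ))) :
    ∃ Δ : Finset α, Δ.card = Γ.card + 1 ∧ ∃ σ ∈ induced G Δ, Equiv.Perm.sign σ = -1 := by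
  have h2 : 2 ∣ Nat.card (pstab G Γ) := heven.two_dvd
  have hfact : Fact (Nat.Prime 2) := ⟨Nat.prime_two⟩
  obtain ⟨t, ht⟩ := exists_prime_orderOf_dvd_card' (G := pstab G Γ) 2 h2
  have ht1 : (t : Equiv.Perm α) ≠ 1 := by
    intro e
    have e' : t = 1 := Subtype.ext e
    rw [e', orderOf_one] at ht
    omega
  have ht2 : (t : Equiv.Perm α) * t = 1 := by
    have := pow_orderOf_eq_one t
    rw [ht, sq] at this
    exact congrArg Subtype.val this
  obtain ⟨a, ha⟩ : ∃ a, (t : Equiv.Perm α) a ≠ a := by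
    by_contra hc
    push Not at hc
    exact ht1 (Equiv.ext hc)
  have htG : (t : Equiv.Perm α) ∈ G := t.2.1
  have htΓ : ∀ c ∈ Γ, (t : Equiv.Perm α) c = c := t.2.2
  obtain ⟨b, hbdef⟩ : ∃ b, b = (t : Equiv.Perm α) a := ⟨_, rfl⟩
  have hta : (t : Equiv.Perm α) b = a := by
    have := congrArg (fun f : Equiv.Perm α => f a) ht2
    rw [hbdef]
    simpa using this
  have hab : a ≠ b := by
    rw [hbdef]
    exact fun e => ha e.symm
  have haΓ : a ∉ Γ := fun h => ha (htΓ a h)
  have hbΓ : b ∉ Γ := by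
    intro h
    have := htΓ b h
    rw [hta] at this
    exact hab this
  obtain ⟨γ, hγ⟩ : ∃ γ, γ ∈ Γ := Finset.card_pos.mp (by omega)
  have hΘ : (Γ.erase γ).card = Γ.card - 1 := Finset.card_erase_of_mem hγ
  have haΘ : a ∉ Γ.erase γ := fun h => haΓ (Finset.mem_of_mem_erase h)
  have hbΘ : b ∉ Γ.erase γ := fun h => hbΓ (Finset.mem_of_mem_erase h)
  have hcard : (insert a (insert b (Γ.erase γ))).card = Γ.card + 1 := by
    rw [Finset.card_insert_of_notMem, Finset.card_insert_of_notMem hbΘ, hΘ]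
    · omega
    · simp [hab, haΘ]
  have haΔ : a ∈ insert a (insert b (Γ.erase γ)) := by simp
  have hbΔ : b ∈ insert a (insert b (Γ.erase γ)) := by simp
  refine ⟨insert a (insert b (Γ.erase γ)), hcard, Equiv.swap ⟨a, haΔ⟩ ⟨b, hbΔ⟩,
    ⟨t, htG, ?_⟩, Equiv.Perm.sign_swap ?_⟩
  · intro x
    have hx := x.2
    rw [Finset.mem_insert, Finset.mem_insert] at hx
    rcases hx with hx | hx | hx
    · have e : x = ⟨a, haΔ⟩ := Subtype.ext hx
      rw [e, Equiv.swap_apply_left]
      exact hbdef.symm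
    · have e : x = ⟨b, hbΔ⟩ := Subtype.ext hx
      rw [e, Equiv.swap_apply_right]
      exact hta
    · have e1 : x ≠ ⟨a, haΔ⟩ := by
        intro e
        have e' : (x : α) = a := congrArg Subtype.val e
        exact haΘ (e' ▸ hx)
      have e2 : x ≠ ⟨b, hbΔ⟩ := by
        intro e
        have e' : (x : α) = b := congrArg Subtype.val e
        exact hbΘ (e' ▸ hx)
      rw [Equiv.swap_apply_of_ne_of_ne e1 e2]
      exact htΓ _ (Finset.mem_of_mem_erase hx)
  · intro e
    exact hab (congrArg Subtype.val e)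

end Cfsg.Agent.Helper58.LW2S8b
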