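import Mathlib
import Cfsg.Agent.Helper64.LW2Defs

/-! # CALL S0745 piece S8c (seat helper58) -/

set_option autoImplicit false
set_option linter.unusedSectionVars false

namespace Cfsg.Agent.Helper58.LW2S8c

open Cfsg.Agent.Lead.LW Cfsg.Agent.Helper64.LW2

variable {α : Type*} [Fintype α] [DecidableEq α]

/-- conjugating an induced permutation by an element of `G`. -/
theorem conj_mem (G : Subgroup (Equiv.Perm α)) (S T : Finset α) (h : Equiv.Perm α) (hh : h ∈ G)
    (e : ↥S ≃ ↥T) (he : ∀ x : ↥S, ((e x : ↥T) : α) = h x) (σ : Equiv.Perm ↥S)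
    (hσ : σ ∈ induced G S) : (e.symm.trans σ).trans e ∈ induced G T := by
  obtain ⟨g, hg, hg'⟩ := hσ
  refine ⟨h * g * h⁻¹, G.mul_mem (G.mul_mem hh hg) (G.inv_mem hh), fun y => ?_⟩
  simp only [Equiv.Perm.mul_apply]
  obtain ⟨x, rfl⟩ := e.surjective y
  have hx : h⁻¹ ((e x : ↥T) : α) = x := by rw [he]; simp
  rw [hx, hg' x, Equiv.trans_apply, Equiv.trans_apply, Equiv.symm_apply_apply, ← he]

-- PIECE S8c
theorem card_induced_of_homog (G : Subgroup (Equiv.Perm α)) (j : ℕ) (hG : Homog G j)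
    (S T : Finset α) (hS : S.card = j) (hT : T.card = j) :
    Nat.card (induced G S) = Nat.card (induced G T) := by
  obtain ⟨h, hh, hmap⟩ := hG S T hS hT
  obtain ⟨e, he⟩ : ∃ e : ↥S ≃ ↥T, ∀ x : ↥S, ((e x : ↥T) : α) = h x :=
    ⟨{ toFun := fun x => ⟨h x, (hmap x).mpr x.2⟩
       invFun := fun y => ⟨h⁻¹ y, (hmap _).mp (by simp)⟩
       left_inv := fun x => Subtype.ext (by simp)
       right_inv := fun y => Subtype.ext (by simp) }, fun _ => rfl⟩
  have he' : ∀ y : ↥T, ((e.symm y : ↥S) : α) = h⁻¹ y := by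
    intro y
    obtain ⟨x, rfl⟩ := e.surjective y
    rw [Equiv.symm_apply_apply, he]
    simp
  refine Nat.card_congr
    { toFun := fun σ => ⟨(e.symm.trans σ.1).trans e, conj_mem G S T h hh e he σ.1 σ.2⟩
      invFun := fun τ => ⟨(e.trans τ.1).trans e.symm,
        conj_mem G T S h⁻¹ (G.inv_mem hh) e.symm he' τ.1 τ.2⟩
      left_inv := fun σ => Subtype.ext (by ext x; simp)
      right_inv := fun τ => Subtype.ext (by ext x; simp) }

end Cfsg.Agent.Helper58.LW2S8c
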