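import Mathlib

/-!
# Manning's theorem on extremely primitive groups (helper58)

`orbKer G α ω` : the kernel of the action of the stabilizer `G_α` on its orbit through `ω`,
as a subgroup of `G`.  Main result: `orbKer_eq_bot` (Manning): in a finite faithful primitive group
with non-trivial point stabilizers, each primitive on all of its orbits, `orbKer G α ω = ⊥`
whenever `ω ≠ α`.
-/

set_option autoImplicit false

namespace Cfsg.Agent.Helper58

open MulAction

/-- The kernel of the action of the stabilizer of `α` on its orbit through `ω`, as a subgroup of `G`. -/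
def orbKer (G : Type*) [Group G] {Ω : Type*} [MulAction G Ω] (α ω : Ω) : Subgroup G where
  carrier := {h | h • α = α ∧ ∀ x ∈ orbit (stabilizer G α) ω, h • x = x}
  mul_mem' := by
    rintro a b ⟨ha, ha'⟩ ⟨hb, hb'⟩
    exact ⟨by rw [mul_smul, hb, ha], fun x hx => by rw [mul_smul, hb' x hx, ha' x hx]⟩
  one_mem' := ⟨one_smul _ _, fun x _ => one_smul _ _⟩
  inv_mem' := by
    rintro a ⟨ha, ha'⟩
    exact ⟨by rw [inv_smul_eq_iff, ha], fun x hx => by rw [inv_smul_eq_iff, ha' x hx]⟩

section basic

variable {G : Type*} [Group G] {Ω : Type*} [MulAction G Ω]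

theorem mem_orbKer {α ω : Ω} {h : G} :
    h ∈ orbKer G α ω ↔ h • α = α ∧ ∀ x ∈ orbit (stabilizer G α) ω, h • x = x := Iff.rfl

theorem orbKer_le_stabilizer (α ω : Ω) : orbKer G α ω ≤ stabilizer G α := fun _ hh => hh.1

theorem orbKer_le_stabilizer' (α ω : Ω) : orbKer G α ω ≤ stabilizer G ω :=
  fun _ hh => hh.2 ω (mem_orbit_self ω)

/-- an element of the point stabilizer maps its orbits into themselves -/
theorem smul_mem_orbit_stabilizer {α ω x : Ω} {g : G} (hg : g ∈ stabilizer G α)
    (hx : x ∈ orbit (stabilizer G α) ω) : g • x ∈ orbit (stabilizer G α) ω := by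
  obtain ⟨a, rfl⟩ := hx
  refine ⟨⟨g, hg⟩ * a, ?_⟩
  show (⟨g, hg⟩ * a) • ω = g • a • ω
  rw [mul_smul]; rfl

theorem stabilizer_le_normalizer_orbKer (α ω : Ω) :
    stabilizer G α ≤ Subgroup.normalizer (orbKer G α ω : Set G) := by
  rw [Subgroup.le_normalizer_iff]
  intro g hg k hk
  have hg' : g • α = α := hg
  have hgi : g⁻¹ ∈ stabilizer G α := inv_mem hg
  refine ⟨?_, fun x hx => ?_⟩
  · rw [mul_smul, mul_smul, inv_smul_eq_iff.mpr hg'.symm, hk.1, hg']
  · rw [mul_smul, mul_smul, hk.2 _ (smul_mem_orbit_stabilizer hgi hx), smul_inv_smul]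

/-- A subgroup `K` of the point stabilizer `G_α` normalized by `G_α`, where `G_α` is primitive on its
orbit through `x`: if `K` moves `x` then `K` is transitive on that orbit. -/
theorem exists_mem_smul_eq_of_normal {α x : Ω} (K : Subgroup G)
    (hKle : K ≤ stabilizer G α) (hKn : stabilizer G α ≤ Subgroup.normalizer (K : Set G))
    (hprim : IsPreprimitive (stabilizer G α) (orbit (stabilizer G α) x))
    (hmove : ∃ k ∈ K, k • x ≠ x) {y : Ω} (hy : y ∈ orbit (stabilizer G α) x) :
    ∃ k ∈ K, k • x = y := by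
  have : (K.subgroupOf (stabilizer G α)).Normal := by
    constructor
    intro n hn g
    rw [Subgroup.mem_subgroupOf] at hn ⊢
    have := (Subgroup.le_normalizer_iff.mp hKn) (g : G) g.2 _ hn
    simpa using this
  have hfix : fixedPoints (K.subgroupOf (stabilizer G α)) (orbit (stabilizer G α) x) ≠ Set.univ := by
    intro hh
    obtain ⟨k, hk, hkx⟩ := hmove
    have hmem : (⟨x, mem_orbit_self x⟩ : orbit (stabilizer G α) x) ∈
        fixedPoints (K.subgroupOf (stabilizer G α)) (orbit (stabilizer G α) x) := by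
      rw [hh]; exact Set.mem_univ _
    have h1 := hmem ⟨⟨k, hKle hk⟩, by rw [Subgroup.mem_subgroupOf]; exact hk⟩
    have h2 := congrArg Subtype.val h1
    exact hkx h2
  have := hprim
  have htr : IsPretransitive (K.subgroupOf (stabilizer G α)) (orbit (stabilizer G α) x) :=
    IsQuasiPreprimitive.isPretransitive_of_normal hfix
  obtain ⟨n, hn⟩ := htr.exists_smul_eq (⟨x, mem_orbit_self x⟩ : orbit (stabilizer G α) x) ⟨y, hy⟩
  refine ⟨((n : stabilizer G α) : G), ?_, ?_⟩
  · have := n.2
    rw [Subgroup.mem_subgroupOf] at this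
    exact this
  · have h2 := congrArg Subtype.val hn
    exact h2

end basic

section main

set_option linter.unusedSectionVars false

variable {G : Type*} [Group G] [Finite G] {Ω : Type*} [Finite Ω] [MulAction G Ω] [FaithfulSMul G Ω]

/-- a normal subgroup fixing a point of a transitive faithful action is trivial -/
theorem eq_bot_of_normal_of_le_stabilizer [IsPretransitive G Ω] {K : Subgroup G}
    (hK : Subgroup.normalizer (K : Set G) = ⊤) {α : Ω} (hKα : K ≤ stabilizer G α) : K = ⊥ := by
  rw [eq_bot_iff]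
  intro k hk
  rw [Subgroup.mem_bot]
  apply FaithfulSMul.eq_of_smul_eq_smul (α := Ω)
  intro x
  obtain ⟨g, rfl⟩ := exists_smul_eq G α x
  have hg : g⁻¹ ∈ Subgroup.normalizer (K : Set G) := by rw [hK]; exact Subgroup.mem_top _
  have h1 : g⁻¹ * k * g⁻¹⁻¹ ∈ K := (hg k).mp hk
  have h2 : (g⁻¹ * k * g⁻¹⁻¹) • α = α := hKα h1
  rw [one_smul]
  rw [inv_inv, mul_smul, mul_smul, inv_smul_eq_iff] at h2
  exact h2

/-- In a primitive faithful action with non-trivial point stabilizers, distinct points have
stabilizers not contained in one another. -/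
theorem not_stabilizer_le_stabilizer [IsPreprimitive G Ω]
    (hH : ∀ α : Ω, stabilizer G α ≠ ⊥) {α β : Ω} (hne : β ≠ α) :
    ¬ stabilizer G β ≤ stabilizer G α := by
  intro hle
  have : Nontrivial Ω := ⟨⟨β, α, hne⟩⟩
  obtain ⟨g, hg⟩ := exists_smul_eq G α β
  have hcard : Nat.card (stabilizer G β) = Nat.card (stabilizer G α) := by
    rw [← hg, stabilizer_smul_eq_stabilizer_map_conj]
    exact Subgroup.card_map_of_injective (MulAut.conj g).injective
  have heq : stabilizer G β = stabilizer G α :=
    Subgroup.eq_of_le_of_card_ge hle hcard.ge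
  have hgn : g ∈ Subgroup.normalizer (stabilizer G α : Set G) := by
    intro h
    show h ∈ stabilizer G α ↔ g * h * g⁻¹ ∈ stabilizer G α
    conv_rhs => rw [← heq, ← hg]
    simp only [mem_stabilizer_iff, mul_smul, inv_smul_smul]
    constructor
    · intro h1; rw [h1]
    · intro h1; exact smul_left_cancel g h1
  have hgA : g ∉ stabilizer G α := by
    intro h1
    have : g • α = α := h1
    rw [this] at hg
    exact hne hg.symm
  have hco : IsCoatom (stabilizer G α) := IsPreprimitive.isCoatom_stabilizer_of_isPreprimitive G α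
  have hlt : stabilizer G α < Subgroup.normalizer (stabilizer G α : Set G) := by
    refine lt_of_le_of_ne Subgroup.le_normalizer ?_
    intro h1
    rw [← h1] at hgn
    exact hgA hgn
  have htop := hco.2 _ hlt
  exact hH α (eq_bot_of_normal_of_le_stabilizer htop le_rfl)

/-- conjugate point stabilizers have the same number of orbits -/
theorem card_orbitRel_quotient_stabilizer_eq [IsPretransitive G Ω] (α β : Ω) :
    Nat.card (orbitRel.Quotient (stabilizer G α) Ω) = Nat.card (orbitRel.Quotient (stabilizer G β) Ω) := by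
  obtain ⟨g, hg⟩ := exists_smul_eq G α β
  refine Nat.card_congr (Quotient.congr (MulAction.toPerm g) ?_)
  intro a₁ a₂
  show (orbitRel (stabilizer G α) Ω) a₁ a₂ ↔ (orbitRel (stabilizer G β) Ω) (g • a₁) (g • a₂)
  rw [orbitRel_apply, orbitRel_apply]
  constructor
  · rintro ⟨h, rfl⟩
    have hmem : g * (h : G) * g⁻¹ ∈ stabilizer G β := by
      rw [← hg, mem_stabilizer_iff, mul_smul, mul_smul, inv_smul_smul]
      congr 1
      exact h.2
    refine ⟨⟨_, hmem⟩, ?_⟩
    show (g * (h : G) * g⁻¹) • g • a₂ = g • (h : G) • a₂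
    rw [mul_smul, mul_smul, inv_smul_smul]
  · rintro ⟨b, hb⟩
    have hb' : (b : G) • g • a₂ = g • a₁ := hb
    have hmem : g⁻¹ * (b : G) * g ∈ stabilizer G α := by
      rw [mem_stabilizer_iff, mul_smul, mul_smul, hg, inv_smul_eq_iff]
      have := b.2
      rw [mem_stabilizer_iff] at this
      rw [this, hg]
    refine ⟨⟨_, hmem⟩, ?_⟩
    show (g⁻¹ * (b : G) * g) • a₂ = a₁
    rw [mul_smul, mul_smul, hb', inv_smul_smul]

/-- **Manning's theorem**, key step: a kernel `orbKer G α β` (`β ≠ α`) of maximal order is trivial. -/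
theorem orbKer_eq_bot_of_maximal [IsPreprimitive G Ω]
    (hH : ∀ α : Ω, stabilizer G α ≠ ⊥)
    (hep : ∀ (α : Ω) (ω : Ω), IsPreprimitive (stabilizer G α) (orbit (stabilizer G α) ω))
    {α β : Ω} (hne : β ≠ α)
    (hmax : ∀ α' ω' : Ω, ω' ≠ α' → Nat.card (orbKer G α' ω') ≤ Nat.card (orbKer G α β)) :
    orbKer G α β = ⊥ := by
  classical
  by_contra hK
  set K := orbKer G α β with hKdef
  have : Nontrivial Ω := ⟨⟨β, α, hne⟩⟩
  -- the fixed point set of K
  set F : Set Ω := {x | ∀ k ∈ K, k • x = x} with hF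
  have hαF : α ∈ F := fun k hk => hk.1
  have hβF : β ∈ F := fun k hk => hk.2 β (mem_orbit_self β)
  have hKA : K ≤ stabilizer G α := orbKer_le_stabilizer α β
  have hKB : K ≤ stabilizer G β := orbKer_le_stabilizer' α β
  have hKn : stabilizer G α ≤ Subgroup.normalizer (K : Set G) := stabilizer_le_normalizer_orbKer α β
  -- F is invariant under the stabilizer of α
  have hFinv : ∀ h ∈ stabilizer G α, ∀ x, x ∈ F ↔ h • x ∈ F := by
    have key : ∀ h ∈ stabilizer G α, ∀ x, x ∈ F → h • x ∈ F := by
      intro h hh x hx k hk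
      have h1 : h⁻¹ * k * h⁻¹⁻¹ ∈ K :=
        (Subgroup.le_normalizer_iff.mp hKn) h⁻¹ (inv_mem hh) k hk
      have h2 := hx _ h1
      rw [inv_inv, mul_smul, mul_smul, inv_smul_eq_iff] at h2
      exact h2
    intro h hh x
    refine ⟨key h hh x, fun hx => ?_⟩
    have := key h⁻¹ (inv_mem hh) _ hx
    rwa [inv_smul_smul] at this
  -- outside F, orbits of the stabilizer of α are K-orbits
  have hout : ∀ x, x ∉ F → ∀ y ∈ orbit (stabilizer G α) x, ∃ k ∈ K, k • x = y := by
    intro x hx y hy
    have hmove : ∃ k ∈ K, k • x ≠ x := by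
      by_contra hcon
      push Not at hcon
      exact hx hcon
    exact exists_mem_smul_eq_of_normal K hKA hKn (hep α x) hmove hy
  -- the map on orbit spaces
  let ψ' : Ω → orbitRel.Quotient (stabilizer G β) Ω := fun x =>
    if x ∈ F then Quotient.mk'' β else Quotient.mk'' x
  have hψ' : ∀ a b : Ω, (orbitRel (stabilizer G α) Ω) a b → ψ' a = ψ' b := by
    intro a b hab
    rw [orbitRel_apply] at hab
    obtain ⟨h, rfl⟩ := hab
    have hiff : b ∈ F ↔ (h : G) • b ∈ F := hFinv (h : G) h.2 b
    show ψ' ((h : G) • b) = ψ' b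
    by_cases hb : b ∈ F
    · have hb' : (h : G) • b ∈ F := hiff.mp hb
      simp only [ψ', hb, hb', if_true]
    · have hb' : (h : G) • b ∉ F := fun h1 => hb (hiff.mpr h1)
      simp only [ψ', hb, hb', if_false]
      obtain ⟨k, hk, hkb⟩ := hout b hb ((h : G) • b) ⟨h, rfl⟩
      rw [← hkb]
      apply Quotient.sound'
      show (orbitRel (stabilizer G β) Ω) (k • b) b
      rw [orbitRel_apply]
      exact ⟨⟨k, hKB hk⟩, rfl⟩
  let ψ : orbitRel.Quotient (stabilizer G α) Ω → orbitRel.Quotient (stabilizer G β) Ω :=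
    Quotient.lift ψ' hψ'
  -- ψ is not injective
  have hninj : ¬ Function.Injective ψ := by
    intro hinj
    have h1 : ψ (Quotient.mk'' α) = ψ (Quotient.mk'' β) := by
      show ψ' α = ψ' β
      simp only [ψ', hαF, hβF, if_true]
    have h2 := hinj h1
    have h3 : (orbitRel (stabilizer G α) Ω) α β := Quotient.exact' h2
    rw [orbitRel_apply] at h3
    obtain ⟨h, hh⟩ := h3
    have h4 : (h : G) • β = α := hh
    have h5 : (h : G) • α = α := h.2
    have : β = α := smul_left_cancel (h : G) (h4.trans h5.symm)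
    exact hne this
  have : Finite (orbitRel.Quotient (stabilizer G α) Ω) := Quotient.finite _
  have : Finite (orbitRel.Quotient (stabilizer G β) Ω) := Quotient.finite _
  have hnsurj : ¬ Function.Surjective ψ := by
    intro hs
    have e : orbitRel.Quotient (stabilizer G α) Ω ≃ orbitRel.Quotient (stabilizer G β) Ω :=
      Classical.choice (Finite.card_eq.mp (card_orbitRel_quotient_stabilizer_eq α β))
    exact hninj ((Finite.injective_iff_surjective_of_equiv e).mpr hs)
  -- an orbit of the stabilizer of β missed by ψ lies inside F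
  obtain ⟨θ, hθ⟩ : ∃ θ, ∀ q, ψ q ≠ θ := by
    by_contra hcon
    push Not at hcon
    exact hnsurj hcon
  obtain ⟨t, rfl⟩ := Quotient.exists_rep θ
  have htβ : t ≠ β := by
    rintro rfl
    apply hθ (Quotient.mk'' α)
    show ψ' α = _
    simp only [ψ', hαF, if_true]
  have htF : ∀ x ∈ orbit (stabilizer G β) t, x ∈ F := by
    intro x hx
    by_contra hxF
    apply hθ (Quotient.mk'' x)
    show ψ' x = _
    simp only [ψ', hxF, if_false]
    apply Quotient.sound'
    show (orbitRel (stabilizer G β) Ω) x t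
    rw [orbitRel_apply]
    exact hx
  -- so K is contained in, hence equal to, the kernel of the stabilizer of β on that orbit
  have hKle : K ≤ orbKer G β t := fun k hk => ⟨hβF k hk, fun x hx => htF x hx k hk⟩
  have hKeq : K = orbKer G β t := Subgroup.eq_of_le_of_card_ge hKle (hmax β t htβ)
  have hKn' : stabilizer G β ≤ Subgroup.normalizer (K : Set G) := by
    rw [hKeq]; exact stabilizer_le_normalizer_orbKer β t
  -- the normalizer of K is everything
  have hco : IsCoatom (stabilizer G α) := IsPreprimitive.isCoatom_stabilizer_of_isPreprimitive G α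
  have htop : Subgroup.normalizer (K : Set G) = ⊤ := by
    by_contra hnt
    have h1 : stabilizer G α = Subgroup.normalizer (K : Set G) := by
      by_contra h2
      exact hnt (hco.2 _ (lt_of_le_of_ne hKn h2))
    rw [← h1] at hKn'
    exact not_stabilizer_le_stabilizer hH hne hKn'
  exact hK (eq_bot_of_normal_of_le_stabilizer htop hKA)

/-- **Manning's theorem**: in a finite faithful primitive group with non-trivial point stabilizers, each
primitive on all its orbits, the point stabilizer acts faithfully on each non-trivial orbit. -/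
theorem orbKer_eq_bot [IsPreprimitive G Ω]
    (hH : ∀ α : Ω, stabilizer G α ≠ ⊥)
    (hep : ∀ (α : Ω) (ω : Ω), IsPreprimitive (stabilizer G α) (orbit (stabilizer G α) ω))
    {α ω : Ω} (hne : ω ≠ α) : orbKer G α ω = ⊥ := by
  classical
  have : Nonempty {p : Ω × Ω // p.2 ≠ p.1} := ⟨⟨(α, ω), hne⟩⟩
  obtain ⟨p₀, hp₀⟩ := Finite.exists_max (fun p : {p : Ω × Ω // p.2 ≠ p.1} => Nat.card (orbKer G p.1.1 p.1.2))
  have h0 : orbKer G p₀.1.1 p₀.1.2 = ⊥ :=
    orbKer_eq_bot_of_maximal hH hep p₀.2 (fun α' ω' h' => hp₀ ⟨(α', ω'), h'⟩)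
  have h1 : Nat.card (orbKer G α ω) ≤ 1 := by
    have := hp₀ ⟨(α, ω), hne⟩
    simp only [h0, Subgroup.card_bot] at this
    exact this
  rw [← Subgroup.card_eq_one]
  have hpos : 0 < Nat.card (orbKer G α ω) := Nat.card_pos
  omega

end main

end Cfsg.Agent.Helper58
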