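import Mathlib

/-!
# Minimal invariant subgroups (helper58)

`IsMinInv N T`: `T` is a non-trivial subgroup normalized by `N` and minimal with these properties
(`IsMinInv ⊤ N` = minimal normal subgroup of `G`; `IsMinInv N T` with `T ≤ N` = minimal normal subgroup
of `N`).  Basic facts: existence, conjugates, two such subgroups are equal or meet trivially (and then
commute), a non-abelian one has no non-trivial abelian `T`-invariant subgroup and is perfect.
-/

set_option autoImplicit false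

namespace Cfsg.Agent.Helper58

open scoped commutatorElement

variable {G : Type*} [Group G]

/-- `T` is a minimal non-trivial `N`-invariant subgroup -/
def IsMinInv (N T : Subgroup G) : Prop :=
  T ≠ ⊥ ∧ (∀ n ∈ N, ∀ t ∈ T, n * t * n⁻¹ ∈ T) ∧
  ∀ K : Subgroup G, K ≤ T → K ≠ ⊥ → (∀ n ∈ N, ∀ k ∈ K, n * k * n⁻¹ ∈ K) → K = T

/-- conjugate subgroup `g K g⁻¹` -/
def cj (g : G) (K : Subgroup G) : Subgroup G := K.map (MulAut.conj g).toMonoidHom

theorem mem_cj {g x : G} {K : Subgroup G} : x ∈ cj g K ↔ g⁻¹ * x * g ∈ K := by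
  constructor
  · rintro ⟨k, hk, rfl⟩
    have : g⁻¹ * ((MulAut.conj g).toMonoidHom k) * g = k := by
      show g⁻¹ * (g * k * g⁻¹) * g = k
      group
    rw [this]; exact hk
  · intro h
    refine ⟨g⁻¹ * x * g, h, ?_⟩
    show g * (g⁻¹ * x * g) * g⁻¹ = x
    group

theorem conj_mem_cj {g k : G} {K : Subgroup G} (hk : k ∈ K) : g * k * g⁻¹ ∈ cj g K := by
  rw [mem_cj]
  have : g⁻¹ * (g * k * g⁻¹) * g = k := by group
  rw [this]; exact hk

theorem cj_ne_bot {g : G} {K : Subgroup G} (hK : K ≠ ⊥) : cj g K ≠ ⊥ := by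
  intro h
  apply hK
  rw [eq_bot_iff]
  intro k hk
  have := conj_mem_cj (g := g) hk
  rw [h, Subgroup.mem_bot] at this
  rw [Subgroup.mem_bot]
  calc k = g⁻¹ * (g * k * g⁻¹) * g := by group
    _ = 1 := by rw [this]; group

theorem cj_cj_inv (g : G) (K : Subgroup G) : cj g (cj g⁻¹ K) = K := by
  ext x
  rw [mem_cj, mem_cj]
  have : g⁻¹⁻¹ * (g⁻¹ * x * g) * g⁻¹ = x := by group
  rw [this]

theorem cj_le_cj {g : G} {K L : Subgroup G} (h : K ≤ L) : cj g K ≤ cj g L := by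
  intro x hx
  rw [mem_cj] at hx ⊢
  exact h hx

/-- the existence of minimal invariant subgroups inside a given non-trivial invariant subgroup -/
theorem exists_isMinInv [Finite G] (N K₀ : Subgroup G) (hK₀ : K₀ ≠ ⊥)
    (hinv : ∀ n ∈ N, ∀ k ∈ K₀, n * k * n⁻¹ ∈ K₀) : ∃ T, IsMinInv N T ∧ T ≤ K₀ := by
  classical
  let S := {K : Subgroup G // K ≤ K₀ ∧ K ≠ ⊥ ∧ ∀ n ∈ N, ∀ k ∈ K, n * k * n⁻¹ ∈ K}
  have : Nonempty S := ⟨⟨K₀, le_rfl, hK₀, hinv⟩⟩
  obtain ⟨T, hT⟩ := Finite.exists_min (fun K : S => Nat.card K.1)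
  refine ⟨T.1, ⟨T.2.2.1, T.2.2.2, ?_⟩, T.2.1⟩
  intro K hKT hK hKinv
  have := hT ⟨K, hKT.trans T.2.1, hK, hKinv⟩
  exact Subgroup.eq_of_le_of_card_ge hKT this

/-- a conjugate of a minimal invariant subgroup by an element normalizing `N` is minimal invariant -/
theorem IsMinInv.conj {N T : Subgroup G} (hT : IsMinInv N T) {g : G}
    (hg : ∀ n ∈ N, g⁻¹ * n * g ∈ N) (hg' : ∀ n ∈ N, g * n * g⁻¹ ∈ N) : IsMinInv N (cj g T) := by
  have hinv : ∀ (g' : G), (∀ n ∈ N, g'⁻¹ * n * g' ∈ N) → ∀ K : Subgroup G,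
      (∀ n ∈ N, ∀ k ∈ K, n * k * n⁻¹ ∈ K) → ∀ n ∈ N, ∀ k ∈ cj g' K, n * k * n⁻¹ ∈ cj g' K := by
    intro g' hg1 K hK n hn k hk
    rw [mem_cj] at hk ⊢
    have h1 := hK _ (hg1 n hn) _ hk
    have h2 : g'⁻¹ * (n * k * n⁻¹) * g' = g'⁻¹ * n * g' * (g'⁻¹ * k * g') * (g'⁻¹ * n * g')⁻¹ := by
      group
    rw [h2]; exact h1
  refine ⟨cj_ne_bot hT.1, hinv g hg T hT.2.1, ?_⟩
  intro K hKT hK hKinv
  have h1 : cj g⁻¹ K ≤ T := by
    intro x hx
    rw [mem_cj, inv_inv] at hx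
    have := hKT hx
    rw [mem_cj] at this
    have h2 : g⁻¹ * (g * x * g⁻¹) * g = x := by group
    rw [h2] at this
    exact this
  have h2 : cj g⁻¹ K = T := by
    apply hT.2.2 _ h1 (cj_ne_bot hK)
    apply hinv g⁻¹ _ K hKinv
    intro n hn
    rw [inv_inv]; exact hg' n hn
  rw [← h2, cj_cj_inv]

/-- two minimal invariant subgroups are equal or meet trivially -/
theorem IsMinInv.eq_or_inf_eq_bot {N T T' : Subgroup G} (hT : IsMinInv N T) (hT' : IsMinInv N T') :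
    T = T' ∨ T ⊓ T' = ⊥ := by
  by_cases h : T ⊓ T' = ⊥
  · right; exact h
  · left
    have hinv : ∀ n ∈ N, ∀ k ∈ T ⊓ T', n * k * n⁻¹ ∈ T ⊓ T' := by
      intro n hn k hk
      exact Subgroup.mem_inf.mpr ⟨hT.2.1 n hn k (Subgroup.mem_inf.mp hk).1,
        hT'.2.1 n hn k (Subgroup.mem_inf.mp hk).2⟩
    rw [← hT.2.2 _ inf_le_left h hinv, hT'.2.2 _ inf_le_right h hinv]

/-- subgroups normalizing each other with trivial intersection commute -/
theorem comm_of_inf_eq_bot {A B : Subgroup G} (hAB : ∀ a ∈ A, ∀ b ∈ B, a * b * a⁻¹ ∈ B)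
    (hBA : ∀ b ∈ B, ∀ a ∈ A, b * a * b⁻¹ ∈ A) (h : A ⊓ B = ⊥) {a b : G} (ha : a ∈ A) (hb : b ∈ B) :
    a * b = b * a := by
  have h1 : a * b * a⁻¹ * b⁻¹ ∈ A ⊓ B := by
    refine Subgroup.mem_inf.mpr ⟨?_, ?_⟩
    · have : a * b * a⁻¹ * b⁻¹ = a * (b * a⁻¹ * b⁻¹) := by group
      rw [this]
      exact A.mul_mem ha (hBA b hb _ (A.inv_mem ha))
    · exact B.mul_mem (hAB a ha b hb) (B.inv_mem hb)
  rw [h, Subgroup.mem_bot] at h1
  calc a * b = a * b * a⁻¹ * b⁻¹ * (b * a) := by group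
    _ = b * a := by rw [h1, one_mul]

/-- two minimal `N`-invariant subgroups inside `N`: elements commute unless the subgroups coincide -/
theorem IsMinInv.comm_of_ne {N T T' : Subgroup G} (hT : IsMinInv N T) (hT' : IsMinInv N T')
    (hTN : T ≤ N) (hTN' : T' ≤ N) (hne : T ≠ T') {a b : G} (ha : a ∈ T) (hb : b ∈ T') :
    a * b = b * a := by
  rcases hT.eq_or_inf_eq_bot hT' with h | h
  · exact absurd h hne
  · exact comm_of_inf_eq_bot (fun a ha b hb => hT'.2.1 a (hTN ha) b hb)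
      (fun b hb a ha => hT.2.1 b (hTN' hb) a ha) h ha hb

/-- a non-abelian minimal invariant subgroup contains no non-trivial abelian subgroup invariant under it -/
theorem IsMinInv.abelian_inv_eq_bot [Finite G] {N T : Subgroup G} (hT : IsMinInv N T)
    (hTna : ¬ ∀ a ∈ T, ∀ b ∈ T, a * b = b * a) (A : Subgroup G) (hA : A ≤ T)
    (hAinv : ∀ t ∈ T, ∀ a ∈ A, t * a * t⁻¹ ∈ A) (hAc : ∀ a ∈ A, ∀ b ∈ A, a * b = b * a) : A = ⊥ := by
  by_contra hne
  obtain ⟨M, hM, hMA⟩ := exists_isMinInv T A hne hAinv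
  have hMT : M ≤ T := hMA.trans hA
  have hTinv' : ∀ n ∈ N, ∀ t ∈ T, n⁻¹ * t * n ∈ T := fun n hn t ht => by
    have := hT.2.1 n⁻¹ (N.inv_mem hn) t ht
    rwa [inv_inv] at this
  -- conjugates of M commute with M
  have hcomm : ∀ n ∈ N, ∀ a ∈ M, ∀ b ∈ M, (n * a * n⁻¹) * b = b * (n * a * n⁻¹) := by
    intro n hn a ha b hb
    have hM' : IsMinInv T (cj n M) :=
      hM.conj (fun t ht => hTinv' n hn t ht) (fun t ht => hT.2.1 n hn t ht)
    have hM'T : cj n M ≤ T := by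
      intro x hx
      rw [mem_cj] at hx
      have := hT.2.1 n hn _ (hMT hx)
      have e : n * (n⁻¹ * x * n) * n⁻¹ = x := by group
      rwa [e] at this
    by_cases heq : cj n M = M
    · have h1 : n * a * n⁻¹ ∈ M := by rw [← heq]; exact conj_mem_cj ha
      exact hAc _ (hMA h1) _ (hMA hb)
    · exact hM'.comm_of_ne hM hM'T hMT heq (conj_mem_cj ha) hb
  -- the subgroup generated by the conjugates
  let S : Set G := {x | ∃ n ∈ N, ∃ a ∈ M, x = n * a * n⁻¹}
  let L := Subgroup.closure S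
  have hLT : L ≤ T := by
    rw [Subgroup.closure_le]
    rintro x ⟨n, hn, a, ha, rfl⟩
    exact hT.2.1 n hn a (hMT ha)
  have hML : M ≤ L := by
    intro a ha
    apply Subgroup.subset_closure
    exact ⟨1, N.one_mem, a, ha, by group⟩
  have hLne : L ≠ ⊥ := by
    intro h
    apply hM.1
    rw [eq_bot_iff, ← h]
    exact hML
  have hLinv : ∀ n ∈ N, ∀ x ∈ L, n * x * n⁻¹ ∈ L := by
    intro n hn x hx
    have h1 : (MulAut.conj n).toMonoidHom x ∈ L.map (MulAut.conj n).toMonoidHom :=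
      Subgroup.mem_map_of_mem _ hx
    have h2 : L.map (MulAut.conj n).toMonoidHom ≤ L := by
      rw [MonoidHom.map_closure, Subgroup.closure_le]
      rintro _ ⟨x, ⟨n', hn', a, ha, rfl⟩, rfl⟩
      apply Subgroup.subset_closure
      refine ⟨n * n', N.mul_mem hn hn', a, ha, ?_⟩
      show n * (n' * a * n'⁻¹) * n⁻¹ = _
      group
    exact h2 h1
  have hLeq : L = T := hT.2.2 L hLT hLne hLinv
  -- M is central in T
  have hMcen : ∀ b ∈ M, ∀ t ∈ T, t * b = b * t := by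
    intro b hb t ht
    rw [← hLeq] at ht
    have h1 : L ≤ Subgroup.centralizer ({b} : Set G) := by
      rw [Subgroup.closure_le]
      rintro x ⟨n, hn, a, ha, rfl⟩
      rw [SetLike.mem_coe, Subgroup.mem_centralizer_iff]
      rintro _ rfl
      exact (hcomm n hn a ha _ hb).symm
    have := h1 ht
    rw [Subgroup.mem_centralizer_iff] at this
    exact (this b rfl).symm
  -- the centre of T
  let Z := T ⊓ Subgroup.centralizer (T : Set G)
  have hZne : Z ≠ ⊥ := by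
    intro h
    apply hM.1
    rw [eq_bot_iff, ← h]
    intro b hb
    refine Subgroup.mem_inf.mpr ⟨hMT hb, ?_⟩
    rw [Subgroup.mem_centralizer_iff]
    intro t ht
    exact hMcen b hb t ht
  have hZinv : ∀ n ∈ N, ∀ z ∈ Z, n * z * n⁻¹ ∈ Z := by
    intro n hn z hz
    obtain ⟨hz1, hz2⟩ := Subgroup.mem_inf.mp hz
    refine Subgroup.mem_inf.mpr ⟨hT.2.1 n hn z hz1, ?_⟩
    rw [Subgroup.mem_centralizer_iff] at hz2 ⊢
    intro t ht
    have h1 := hz2 _ (hTinv' n hn t ht)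
    calc t * (n * z * n⁻¹) = n * ((n⁻¹ * t * n) * z) * n⁻¹ := by group
      _ = n * (z * (n⁻¹ * t * n)) * n⁻¹ := by rw [h1]
      _ = n * z * n⁻¹ * t := by group
  have hZeq : Z = T := hT.2.2 Z inf_le_left hZne hZinv
  apply hTna
  intro a ha b hb
  have : a ∈ Z := by rw [hZeq]; exact ha
  have h1 := (Subgroup.mem_inf.mp this).2
  rw [Subgroup.mem_centralizer_iff] at h1
  exact (h1 b hb).symm

/-- a non-abelian minimal invariant subgroup, as a group, has no non-trivial abelian normal subgroup -/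
theorem IsMinInv.subtype_T0 [Finite G] {N T : Subgroup G} (hT : IsMinInv N T)
    (hTna : ¬ ∀ a ∈ T, ∀ b ∈ T, a * b = b * a) :
    ∀ A : Subgroup T, A.Normal → (∀ a ∈ A, ∀ b ∈ A, a * b = b * a) → A = ⊥ := by
  intro A hAn hAc
  have h1 : A.map T.subtype = ⊥ := by
    apply hT.abelian_inv_eq_bot hTna _ (Subgroup.map_subtype_le A)
    · rintro t ht _ ⟨a, ha, rfl⟩
      exact ⟨⟨t, ht⟩ * a * ⟨t, ht⟩⁻¹, hAn.conj_mem a ha ⟨t, ht⟩, rfl⟩
    · rintro _ ⟨a, ha, rfl⟩ _ ⟨b, hb, rfl⟩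
      exact congrArg Subtype.val (hAc a ha b hb)
  exact (Subgroup.map_eq_bot_iff_of_injective _ T.subtype_injective).mp h1

/-- a non-abelian minimal invariant subgroup is perfect -/
theorem IsMinInv.subtype_perfect {N T : Subgroup G} (hT : IsMinInv N T)
    (hTna : ¬ ∀ a ∈ T, ∀ b ∈ T, a * b = b * a) : commutator T = ⊤ := by
  have hK_le : ⁅T, T⁆ ≤ T := by
    rw [Subgroup.commutator_le]
    intro a ha b hb
    rw [commutatorElement_def]
    exact T.mul_mem (T.mul_mem (T.mul_mem ha hb) (T.inv_mem ha)) (T.inv_mem hb)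
  have hK_ne : ⁅T, T⁆ ≠ ⊥ := by
    intro h
    apply hTna
    intro a ha b hb
    have : ⁅a, b⁆ ∈ ⁅T, T⁆ := Subgroup.commutator_mem_commutator ha hb
    rw [h, Subgroup.mem_bot, commutatorElement_eq_one_iff_commute] at this
    exact this.eq
  have hK_inv : ∀ n ∈ N, ∀ k ∈ ⁅T, T⁆, n * k * n⁻¹ ∈ ⁅T, T⁆ := by
    intro n hn k hk
    have h1 : (MulAut.conj n).toMonoidHom k ∈ (⁅T, T⁆).map (MulAut.conj n).toMonoidHom :=
      Subgroup.mem_map_of_mem _ hk
    rw [Subgroup.map_commutator] at h1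
    have h2 : T.map (MulAut.conj n).toMonoidHom ≤ T := by
      rintro _ ⟨t, ht, rfl⟩
      exact hT.2.1 n hn t ht
    exact Subgroup.commutator_mono h2 h2 h1
  have hK : ⁅T, T⁆ = T := hT.2.2 _ hK_le hK_ne hK_inv
  have h3 : (commutator T).map T.subtype = (⊤ : Subgroup T).map T.subtype := by
    rw [commutator_def, Subgroup.map_commutator, ← MonoidHom.range_eq_map, Subgroup.range_subtype, hK]
  exact Subgroup.map_injective T.subtype_injective h3

/-- a minimal normal subgroup of a non-abelian minimal normal subgroup is non-abelian -/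
theorem IsMinInv.not_comm_of_le {N T : Subgroup G} (hN : IsMinInv ⊤ N)
    (hNna : ¬ ∀ a ∈ N, ∀ b ∈ N, a * b = b * a) (hT : IsMinInv N T) (hTN : T ≤ N) :
    ¬ ∀ a ∈ T, ∀ b ∈ T, a * b = b * a := by
  intro hTc
  have hNn : ∀ g : G, ∀ n ∈ N, g * n * g⁻¹ ∈ N := fun g n hn => hN.2.1 g (Subgroup.mem_top g) n hn
  have hNn' : ∀ g : G, ∀ n ∈ N, g⁻¹ * n * g ∈ N := fun g n hn => by
    have := hNn g⁻¹ n hn
    rwa [inv_inv] at this
  have hcj : ∀ g : G, IsMinInv N (cj g T) := fun g => hT.conj (hNn' g) (hNn g)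
  have hcjN : ∀ g : G, cj g T ≤ N := by
    intro g x hx
    rw [mem_cj] at hx
    have := hNn g _ (hTN hx)
    have e : g * (g⁻¹ * x * g) * g⁻¹ = x := by group
    rwa [e] at this
  let S : Set G := {x | ∃ g : G, ∃ t ∈ T, x = g * t * g⁻¹}
  have hScomm : ∀ x ∈ S, ∀ y ∈ S, x * y = y * x := by
    rintro _ ⟨g, t, ht, rfl⟩ _ ⟨g', t', ht', rfl⟩
    by_cases heq : cj g T = cj g' T
    · have h1 : g' * t' * g'⁻¹ ∈ cj g T := by rw [heq]; exact conj_mem_cj ht'
      rw [mem_cj] at h1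
      have h2 := hTc t ht _ h1
      calc g * t * g⁻¹ * (g' * t' * g'⁻¹)
          = g * (t * (g⁻¹ * (g' * t' * g'⁻¹) * g)) * g⁻¹ := by group
        _ = g * ((g⁻¹ * (g' * t' * g'⁻¹) * g) * t) * g⁻¹ := by rw [h2]
        _ = g' * t' * g'⁻¹ * (g * t * g⁻¹) := by group
    · exact (hcj g).comm_of_ne (hcj g') (hcjN g) (hcjN g') heq (conj_mem_cj ht) (conj_mem_cj ht')
  let L := Subgroup.closure S
  have hLN : L ≤ N := by
    rw [Subgroup.closure_le]
    rintro _ ⟨g, t, ht, rfl⟩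
    exact hNn g t (hTN ht)
  have hLne : L ≠ ⊥ := by
    intro h
    apply hT.1
    rw [eq_bot_iff, ← h]
    intro t ht
    apply Subgroup.subset_closure
    exact ⟨1, t, ht, by group⟩
  have hLinv : ∀ g ∈ (⊤ : Subgroup G), ∀ x ∈ L, g * x * g⁻¹ ∈ L := by
    intro g _ x hx
    have h1 : (MulAut.conj g).toMonoidHom x ∈ L.map (MulAut.conj g).toMonoidHom :=
      Subgroup.mem_map_of_mem _ hx
    have h2 : L.map (MulAut.conj g).toMonoidHom ≤ L := by
      rw [MonoidHom.map_closure, Subgroup.closure_le]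
      rintro _ ⟨_, ⟨g', t, ht, rfl⟩, rfl⟩
      apply Subgroup.subset_closure
      refine ⟨g * g', t, ht, ?_⟩
      show g * (g' * t * g'⁻¹) * g⁻¹ = _
      group
    exact h2 h1
  have hLeq : L = N := hN.2.2 L hLN hLne hLinv
  apply hNna
  have hc1 : ∀ s ∈ S, ∀ x ∈ L, s * x = x * s := by
    intro s hs x hx
    have h1 : L ≤ Subgroup.centralizer ({s} : Set G) := by
      rw [Subgroup.closure_le]
      intro y hy
      rw [SetLike.mem_coe, Subgroup.mem_centralizer_iff]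
      rintro _ rfl
      exact hScomm _ hs y hy
    have := h1 hx
    rw [Subgroup.mem_centralizer_iff] at this
    exact this s rfl
  intro a ha b hb
  rw [← hLeq] at ha hb
  have h1 : L ≤ Subgroup.centralizer ({a} : Set G) := by
    rw [Subgroup.closure_le]
    intro y hy
    rw [SetLike.mem_coe, Subgroup.mem_centralizer_iff]
    rintro _ rfl
    exact (hc1 y hy _ ha).symm
  have := h1 hb
  rw [Subgroup.mem_centralizer_iff] at this
  exact this a rfl

end Cfsg.Agent.Helper58
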