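import Cfsg.Prelude.Def_Transfer
import Cfsg.Prelude.Def_Solvable
import Cfsg.Agent.Helper63.N15Defs

set_option autoImplicit false

/-!
# helper58 library for CALL S4415 (helper63), part 2: the group-theoretic lemmas F1, F2, F3, FQ.
-/

namespace Cfsg.Agent.Helper58.N15Aux

open Cfsg.Agent.Helper63.N15

variable {G : Type*} [Group G] {V : Type*} [AddCommGroup V] [Module (ZMod 3) V]
  {ρ : Representation (ZMod 3) G V} {R : Subgroup G} {b q₁ q₂ q₃ : G} {v₁ v₂ v₃ : V}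

theorem aux_f1 (c : Cfg ρ R b q₁ q₂ q₃ v₁ v₂ v₃) :
    ∀ N : Subgroup G, N.Normal → b ∈ N → N = ⊤ := by
  intro N hN hb
  have hR : R ≤ N := by
    have h1 : ⁅R, Subgroup.zpowers b⁆ ≤ ⁅(⊤ : Subgroup G), N⁆ :=
      Subgroup.commutator_mono le_top ((Subgroup.zpowers_le).mpr hb)
    rw [c.comm] at h1
    haveI := hN
    exact h1.trans (Subgroup.commutator_le_right ⊤ N)
  rw [eq_top_iff, ← c.gen]
  exact sup_le hR ((Subgroup.zpowers_le).mpr hb)

theorem aux_f2 (c : Cfg ρ R b q₁ q₂ q₃ v₁ v₂ v₃) :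
    ∀ N : Subgroup G, N.Normal → (∀ x ∈ N, x * b = b * x) → ∀ x ∈ N, ∀ g : G, x * g = g * x := by
  intro N hN hb x hx g
  have hCn : (Subgroup.centralizer (N : Set G)).Normal := ⟨by
    intro a ha g'
    rw [Subgroup.mem_centralizer_iff] at ha ⊢
    intro n hn
    have h1 := ha (g'⁻¹ * n * g') (by
      have := hN.conj_mem n hn g'⁻¹
      rwa [inv_inv] at this)
    calc n * (g' * a * g'⁻¹) = g' * ((g'⁻¹ * n * g') * a) * g'⁻¹ := by group
      _ = g' * (a * (g'⁻¹ * n * g')) * g'⁻¹ := by rw [h1]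
      _ = g' * a * g'⁻¹ * n := by group⟩
  have hbC : b ∈ Subgroup.centralizer (N : Set G) := by
    rw [Subgroup.mem_centralizer_iff]
    intro n hn
    exact hb n hn
  have htop := aux_f1 c _ hCn hbC
  have hg : g ∈ Subgroup.centralizer (N : Set G) := by
    rw [htop]
    exact Subgroup.mem_top g
  exact (Subgroup.mem_centralizer_iff.mp hg) x hx

theorem aux_f3 (c : Cfg ρ R b q₁ q₂ q₃ v₁ v₂ v₃) :
    ∀ g h : G, g * h * g⁻¹ * h⁻¹ ∈ R := by
  haveI := c.Rn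
  have key : ∀ g : G, ∃ k : ℤ,
      (QuotientGroup.mk g : G ⧸ R) = (QuotientGroup.mk b : G ⧸ R) ^ k := by
    intro g
    have hg : g ∈ (↑(R ⊔ Subgroup.zpowers b) : Set G) := by
      rw [c.gen]
      exact Subgroup.mem_top g
    rw [Subgroup.normal_mul] at hg
    obtain ⟨r, hr, z, hz, rfl⟩ := Set.mem_mul.mp hg
    obtain ⟨k, rfl⟩ := Subgroup.mem_zpowers_iff.mp hz
    refine ⟨k, ?_⟩
    rw [QuotientGroup.mk_mul, (QuotientGroup.eq_one_iff r).mpr hr, one_mul, QuotientGroup.mk_zpow]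
  intro g h
  obtain ⟨i, hi⟩ := key g
  obtain ⟨j, hj⟩ := key h
  rw [← QuotientGroup.eq_one_iff, QuotientGroup.mk_mul, QuotientGroup.mk_mul,
    QuotientGroup.mk_mul, QuotientGroup.mk_inv, QuotientGroup.mk_inv, hi, hj, zpow_mul_comm,
    mul_inv_cancel_right, mul_inv_cancel]

theorem aux_fq (c : Cfg ρ R b q₁ q₂ q₃ v₁ v₂ v₃) :
    ∀ g : G, ∃ r ∈ R, g = r ∨ g = r * b ∨ g = r * (b * b) := by
  haveI := c.Rn
  intro g
  have hg : g ∈ (↑(R ⊔ Subgroup.zpowers b) : Set G) := by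
    rw [c.gen]
    exact Subgroup.mem_top g
  rw [Subgroup.normal_mul] at hg
  obtain ⟨r, hr, z, hz, rfl⟩ := Set.mem_mul.mp hg
  obtain ⟨k, rfl⟩ := Subgroup.mem_zpowers_iff.mp hz
  refine ⟨r, hr, ?_⟩
  have hb3 : b ^ (3 : ℤ) = 1 := by
    rw [← c.b3]
    exact zpow_ofNat b 3
  have hk : b ^ k = b ^ (k % 3) := by
    conv_lhs => rw [← Int.emod_add_mul_ediv k 3]
    rw [zpow_add, zpow_mul, hb3, one_zpow, mul_one]
  rw [hk]
  have h3 : k % 3 = 0 ∨ k % 3 = 1 ∨ k % 3 = 2 := by omega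
  rcases h3 with h | h | h
  · left
    rw [h, zpow_zero, mul_one]
  · right
    left
    rw [h, zpow_one]
  · right
    right
    rw [h, zpow_two]

end Cfsg.Agent.Helper58.N15Aux
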