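import Mathlib
import Cfsg.Agent.Helper40.PresTool

/-!
# The Coxeter presentation of `S₅` (helper58)

Universal property of `S₅ = ⟨s₁, s₂, s₃, s₄ | Coxeter relations of type A₄⟩`, from a coset
table certificate checked with the `CT2` checker of `Cfsg.Agent.Helper89` through
`Cfsg.Agent.Helper40.hom_of_cert`.
-/

set_option autoImplicit false

namespace Cfsg.Agent.Helper58.PresS5

open Cfsg.Agent.Helper89 Cfsg.Agent.Helper40 Equiv

def tabS5 : ℕ := 0x767675757474737377777272717170706f6f77776e6e6d6d71716c6c77776b6b70706d6d6a6a777769697676686867677474666676766565737367676464767675756969636362626363616175756060626273735f5f75755e5e747461615d5d65655d5d5c5c747464645b5b73735c5c72726f6f5a5a59595a5a585872725757595970705656727255557171585854546b6b5454535371716a6a5252707053536e6e51516f6f50506d6d59594f4f6f6f4e4e6e6e6c6c4d4d50504d4d4c4c6e6e4f4f4b4b6d6d4c4c6c6c55554e4e4a4a4a4a6b6b49496c6c535348486b6b6a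6a47476a6a4b4b48486868464669694545676762624444696943436868666642424545424241416868444440406767414166665e5e43433f3f3f3f65653e3e66665c5c3d3d656564643c3c646440403d3d3b3b636346463a3a60603a3a393963635f5f38386262393961613b3b5e5e373737376060363661613939353560605f5f34345f5f5b5b35355d5d3f3f33335e5e333332325d5d363631315c5c32325b5b5b5b3c3c3434313130305a5a51512f2f57572f2f2e2e5a5a56562d2d59592e2e5858303055552c2c2c2c57572b2b58582e2e2a2a575756562929565652522a2a54544a4a282855552828272754542b2b2626535327275252525247472929262651514e4e3030252525255050242451514c4c232350504f4f22224f4f2d2d23234d4d252521214e4e212120204d4d49491f1f4c4c20204b4b4b4b222247471f1f49491e1e4a4a21211d1d494948482020484826261d1d4747464643433b3b1c1c1c1c45451b1b464641411a1a454544441919444438381a1a42421c1c181843431818171742423e3e1616414117174040404019193c3c16163e3e15153f3f181814143e3e3d3d17173d3d313114143c3c3a3a373713133b3b131312123a3a1b1b111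1393912123838383834341919111136361010373733330f0f363635353232353511110f0f34340e0e33331515101032320e0e31310f0f2f2f2c2c0d0d30300d0d0c0c2f2f24240b0b2e2e0c0c2d2d2d2d292922220b0b2b2b0a0a2c2c282809092b2b2a2a27272a2a0b0b09092929080828281e1e0a0a27270808262609092424070725250d0d0606242423230c0c23231f1f060622220505212107071e1e202005051f1f1d1d1e1e1d1d080805051b1b04041c1c131303031b1b1a1a12121a1a16160303191902021818040415151717020216161414151514140e0e02020101131310100404121201011111030310100f0f01010e0e00000d0d0a0a07070c0c00000b0b06060a0a09090000080807070606050500000404030302020101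
def parS5 : ℕ := 0x73706d6b6a67656462605f5d5c5b595756545352504f4d4c4b4a49484745444241403f3e3d3c3a393837363534333231312f2e2d2c2b2a29282726262524232221201f1f1e1d1d1c1b1a191817161615141413121111100f0f0e0e0d0c0b0b0a090908080706060505050403030202020101010000000000
def gamS5 : ℕ := 0x200000200000200020400000200020400020002040002040600020002040002040600020400020406020406000002040002040602040600000204060204060004060200020406020406000406020204060004060206040204060004060206040406020604000406020604000604020604020000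
def relsS5 : List (List ℕ) := [[0,0],[2,2],[4,4],[6,6],[0,2,0,2,0,2],[2,4,2,4,2,4],[4,6,4,6,4,6],[0,4,0,4],[0,6,0,6],[2,6,2,6]]
def stepsS5 : List (ℕ × ℕ × ℕ) := [(0, 0, 1), (2, 0, 1), (5, 0, 1), (11, 0, 1), (17, 0, 1), (22, 0, 1), (28, 0, 1), (31, 0, 1), (37, 0, 1), (38, 0, 1), (44, 0, 1), (47, 0, 1), (49, 0, 1), (55, 0, 1), (58, 0, 1), (63, 0, 1), (66, 0, 1), (69, 0, 1), (74, 0, 1), (77, 0, 1), (80, 0, 1), (84, 0, 1), (87, 0, 1), (89, 0, 1), (93, 0, 1), (96, 0, 1), (98, 0, 1), (101, 0, 1), (103, 0, 1), (107, 0, 1), (109, 0, 1), (112, 0, 1), (115, 0, 1), (0, 1, 1), (1, 1, 1), (3, 1, 1), (6, 1, 1), (9, 1, 1), (13, 1, 1), (15, 1, 1), (19, 1, 1), (20, 1, 1), (24, 1, 1), (27, 1, 1), (29, 1, 1), (33, 1, 1), (36, 1, 1), (40, 1, 1), (43, 1, 1), (46, 1, 1), (51, 1, 1), (54, 1, 1), (57, 1, 1), (62, 1, 1), (65, 1, 1), (68, 1, 1), (73, 1, 1), (76, 1, 1), (79, 1, 1), (83, 1, 1), (86, 1, 1), (92, 1,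 1), (95, 1, 1), (100, 1, 1), (106, 1, 1), (0, 2, 1), (1, 2, 1), (2, 2, 1), (4, 2, 1), (5, 2, 1), (7, 2, 1), (8, 2, 1), (10, 2, 1), (12, 2, 1), (14, 2, 1), (16, 2, 1), (18, 2, 1), (21, 2, 1), (23, 2, 1), (26, 2, 1), (30, 2, 1), (32, 2, 1), (35, 2, 1), (39, 2, 1), (42, 2, 1), (45, 2, 1), (50, 2, 1), (53, 2, 1), (56, 2, 1), (61, 2, 1), (64, 2, 1), (72, 2, 1), (75, 2, 1), (82, 2, 1), (91, 2, 1), (0, 3, 1), (1, 3, 1), (2, 3, 1), (3, 3, 1), (5, 3, 1), (6, 3, 1), (8, 3, 1), (9, 3, 1), (11, 3, 1), (14, 3, 1), (15, 3, 1), (17, 3, 1), (20, 3, 1), (22, 3, 1), (25, 3, 1), (29, 3, 1), (31, 3, 1), (34, 3, 1), (38, 3, 1), (41, 3, 1), (49, 3, 1), (52, 3, 1), (60, 3, 1), (71, 3, 1), (0, 4, 3), (1, 4, 3), (0, 5, 3), (1, 5, 3), (2, 5, 3), (5, 5, 3), (8, 5, 3), (14, 5, 3), (0, 6, 3), (1, 6, 3), (2, 6, 3), (3, 6, 3), (5, 6, 3), (6, 6, 3), (8, 6, 3), (9, 6, 3), (11, 6, 3), (14, 6, 3), (15, 6, 3), (17, 6, 3), (20,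 6, 3), (22, 6, 3), (29, 6, 3), (31, 6, 3), (38, 6, 3), (49, 6, 3), (0, 7, 2), (1, 7, 2), (2, 7, 2), (5, 7, 2), (8, 7, 2), (11, 7, 1), (14, 7, 2), (17, 7, 1), (22, 7, 1), (31, 7, 1), (38, 7, 1), (49, 7, 1), (0, 8, 2), (1, 8, 2), (2, 8, 2), (3, 8, 2), (5, 8, 2), (6, 8, 2), (8, 8, 2), (9, 8, 2), (11, 8, 2), (14, 8, 2), (15, 8, 2), (17, 8, 2), (20, 8, 2), (22, 8, 2), (25, 8, 2), (29, 8, 2), (31, 8, 2), (34, 8, 2), (38, 8, 2), (41, 8, 2), (49, 8, 2), (52, 8, 2), (60, 8, 2), (71, 8, 2), (0, 9, 2), (1, 9, 2), (2, 9, 2), (3, 9, 2), (5, 9, 2), (6, 9, 2), (8, 9, 2), (9, 9, 2), (11, 9, 2), (13, 9, 1), (14, 9, 2), (15, 9, 2), (17, 9, 2), (19, 9, 1), (20, 9, 2), (22, 9, 2), (24, 9, 1), (27, 9, 1), (29, 9, 2), (31, 9, 2), (33, 9, 1), (36, 9, 1), (38, 9, 2), (40, 9, 1), (43, 9, 1), (46, 9, 1), (49, 9, 2), (51, 9, 1), (54, 9, 1), (57, 9, 1), (62, 9, 1), (65, 9, 1), (73, 9, 1), (76, 9, 1), (83, 9, 1), (92,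 9, 1), (3, 4, 3), (6, 4, 3), (9, 4, 3), (12, 4, 3), (15, 4, 3), (18, 4, 3), (20, 4, 3), (23, 4, 3), (29, 4, 3), (32, 4, 3), (39, 4, 3), (50, 4, 3), (4, 5, 3), (7, 5, 3), (10, 5, 3), (12, 5, 3), (16, 5, 3), (18, 5, 3), (21, 5, 3), (23, 5, 3), (26, 5, 3), (30, 5, 3), (32, 5, 3), (35, 5, 3), (39, 5, 3), (42, 5, 3), (45, 5, 3), (50, 5, 3), (53, 5, 3), (56, 5, 3), (61, 5, 3), (64, 5, 3), (72, 5, 3), (75, 5, 3), (82, 5, 3), (91, 5, 3), (25, 6, 3), (34, 6, 3), (41, 6, 3), (52, 6, 3), (60, 6, 3), (71, 6, 3), (4, 7, 2), (7, 7, 2), (10, 7, 2), (12, 7, 2), (16, 7, 2), (18, 7, 2), (21, 7, 2), (23, 7, 2), (26, 7, 2), (28, 7, 1), (30, 7, 2), (32, 7, 2), (35, 7, 2), (37, 7, 1), (39, 7, 2), (42, 7, 2), (44, 7, 1), (45, 7, 2), (47, 7, 1), (50, 7, 2), (53, 7, 2), (55, 7, 1), (56, 7, 2), (58, 7, 1), (61, 7, 2), (63, 7, 1), (64, 7, 2), (66, 7, 1), (69, 7, 1), (72, 7, 2), (74, 7, 1), (75, 7, 2), (77, 7, 1), (80,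 7, 1), (82, 7, 2), (84, 7, 1), (87, 7, 1), (89, 7, 1), (91, 7, 2), (93, 7, 1), (96, 7, 1), (98, 7, 1), (101, 7, 1), (103, 7, 1), (107, 7, 1), (109, 7, 1), (112, 7, 1), (115, 7, 1), (28, 8, 1), (37, 8, 1), (44, 8, 1), (47, 8, 1), (55, 8, 1), (58, 8, 1), (63, 8, 1), (66, 8, 1), (69, 8, 1), (74, 8, 1), (77, 8, 1), (80, 8, 1), (84, 8, 1), (87, 8, 1), (93, 8, 1), (96, 8, 1), (101, 8, 1), (107, 8, 1), (68, 9, 1), (79, 9, 1), (86, 9, 1), (95, 9, 1), (100, 9, 1), (106, 9, 1), (13, 4, 3), (19, 4, 3), (24, 4, 3), (27, 4, 3), (33, 4, 3), (36, 4, 3), (40, 4, 3), (43, 4, 3), (46, 4, 3), (51, 4, 3), (54, 4, 3), (57, 4, 3), (62, 4, 3), (65, 4, 3), (68, 4, 3), (73, 4, 3), (76, 4, 3), (79, 4, 3), (83, 4, 3), (86, 4, 3), (92, 4, 3), (95, 4, 3), (100, 4, 3), (106, 4, 3), (89, 8, 1), (98, 8, 1), (103, 8, 1), (109, 8, 1), (112, 8, 1), (115, 8, 1)]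
def wordsS5 : List (List ℕ) := [[],[0],[2],[4],[6],[0,2],[0,4],[0,6],[2,0],[2,4],[2,6],[4,2],[4,6],[6,4],[0,2,0],[0,2,4],[0,2,6],[0,4,2],[0,4,6],[0,6,4],[2,0,4],[2,0,6],[2,4,2],[2,4,6],[2,6,4],[4,2,0],[4,2,6],[4,6,4],[6,4,2],[0,2,0,4],[0,2,0,6],[0,2,4,2],[0,2,4,6],[0,2,6,4],[0,4,2,0],[0,4,2,6],[0,4,6,4],[0,6,4,2],[2,0,4,2],[2,0,4,6],[2,0,6,4],[2,4,2,0],[2,4,2,6],[2,4,6,4],[2,6,4,2],[4,2,0,6],[4,2,6,4],[4,6,4,2],[6,4,2,0],[0,2,0,4,2],[0,2,0,4,6],[0,2,0,6,4],[0,2,4,2,0],[0,2,4,2,6],[0,2,4,6,4],[0,2,6,4,2],[0,4,2,0,6],[0,4,2,6,4],[0,4,6,4,2],[0,6,4,2,0],[2,0,4,2,0],[2,0,4,2,6],[2,0,4,6,4],[2,0,6,4,2],[2,4,2,0,6],[2,4,2,6,4],[2,4,6,4,2],[2,6,4,2,0],[4,2,0,6,4],[4,2,6,4,2],[4,6,4,2,0],[0,2,0,4,2,0],[0,2,0,4,2,6],[0,2,0,4,6,4],[0,2,0,6,4,2],[0,2,4,2,0,6],[0,2,4,2,6,4],[0,2,4,6,4,2],[0,2,6,4,2,0],[0,4,2,0,6,4],[0,4,2,6,4,2],[0,4,6,4,2,0],[2,0,4,2,0,6],[2,0,4,2,6,4],[2,0,4,6,4,2],[2,0,6,4,2,0],[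2,4,2,0,6,4],[2,4,2,6,4,2],[2,4,6,4,2,0],[4,2,0,6,4,2],[4,2,6,4,2,0],[0,2,0,4,2,0,6],[0,2,0,4,2,6,4],[0,2,0,4,6,4,2],[0,2,0,6,4,2,0],[0,2,4,2,0,6,4],[0,2,4,2,6,4,2],[0,2,4,6,4,2,0],[0,4,2,0,6,4,2],[0,4,2,6,4,2,0],[2,0,4,2,0,6,4],[2,0,4,2,6,4,2],[2,0,4,6,4,2,0],[2,4,2,0,6,4,2],[2,4,2,6,4,2,0],[4,2,0,6,4,2,0],[0,2,0,4,2,0,6,4],[0,2,0,4,2,6,4,2],[0,2,0,4,6,4,2,0],[0,2,4,2,0,6,4,2],[0,2,4,2,6,4,2,0],[0,4,2,0,6,4,2,0],[2,0,4,2,0,6,4,2],[2,0,4,2,6,4,2,0],[2,4,2,0,6,4,2,0],[0,2,0,4,2,0,6,4,2],[0,2,0,4,2,6,4,2,0],[0,2,4,2,0,6,4,2,0],[2,0,4,2,0,6,4,2,0],[0,2,0,4,2,0,6,4,2,0]]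
def e0S5 : ℕ := 0x20202020902020902020902092402020902092402090209240209249002090209240209249002092402092490092490420209240209249009249042020924900924904224904902092490092490422490490924904224904990640924904224904990642490499064522490499064529064599064595655
def codesS5 : List ℕ := [194,694,294,214,198,894,714,698,1294,334,298,414,222,238,1394,954,898,1014,722,738,1334,1298,434,346,358,1914,422,242,538,1454,1398,1054,970,978,2014,1022,742,1138,1634,1346,1358,1934,446,366,558,1922,482,542,2538,1654,1470,1478,2054,1070,990,1178,2022,1102,1142,2638,2134,1646,1366,1758,1946,486,566,2558,1982,582,2542,2154,1670,1490,1778,2070,1110,1190,2678,2102,1202,2642,2146,1726,1766,2758,1986,586,2566,2382,2582,2170,1730,1790,2778,2110,1210,2690,2402,2702,2226,1826,2766,2386,2586,2882,2230,1830,2790,2410,2710,2902,2426,2826,2886,2430,2830,2910,2926,2930]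

/-- The Coxeter generators `(0 1), (1 2), (2 3), (3 4)`. -/
def s5g : Fin 4 → Perm (Fin 5) := ![swap 0 1, swap 1 2, swap 2 3, swap 3 4]

/-- A numerical code of a permutation of `Fin 5`. -/
def codeP (p : Perm (Fin 5)) : ℕ :=
  ((((p 0).val * 5 + (p 1).val) * 5 + (p 2).val) * 5 + (p 3).val) * 5 + (p 4).val

theorem s5_card : Nat.card (Perm (Fin 5)) = 120 := by
  rw [Nat.card_eq_fintype_card, Fintype.card_perm, Fintype.card_fin]; decide

theorem s5_pre :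
    CT2.preChk 120 8 (tbl 8 8 tabS5) (vec 8 parS5) (vec 8 gamS5) [] = some e0S5 := by
  decide +kernel

/-- The full mask `2 ^ 960 - 1`. -/
def fullS5 : ℕ := 0xffffffffffffffffffffffffffffffffffffffffffffffffffffffffffffffffffffffffffffffffffffffffffffffffffffffffffffffffffffffffffffffffffffffffffffffffffffffffffffffffffffffffffffffffffffffffffffffffffffffffffffffffffffffffffffffffffffffffffffffff

theorem s5_full : fullS5 = 2 ^ (120 * (2 * 4)) - 1 := by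
  have h : (2 : ℕ) ^ (120 * (2 * 4)) = ((2 ^ 240) ^ 2) ^ 2 := by rw [← pow_mul, ← pow_mul]
  rw [h]
  decide +kernel

theorem s5_run' : CT2.runSteps (tbl 8 8 tabS5) 8 relsS5 e0S5 stepsS5 = some fullS5 := by
  decide +kernel

theorem s5_run :
    CT2.runSteps (tbl 8 8 tabS5) (2 * 4) relsS5 e0S5 stepsS5 =
      some (2 ^ (120 * (2 * 4)) - 1) := by
  rw [← s5_full]
  exact s5_run'

theorem s5_words : wordsOK 120 (vec 8 parS5) (vec 8 gamS5) wordsS5 = true := by decide +kernel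

theorem s5_codes :
    ((List.range 120).map fun c => codeP (ev (sym s5g) (wordsS5.getD c []))) = codesS5 := by
  decide +kernel

theorem s5_codes_nodup : codesS5.Nodup := by decide +kernel

theorem s5_nodup :
    ((List.range 120).map fun c => ev (sym s5g) (wordsS5.getD c [])).Nodup := by
  apply List.Nodup.of_map codeP
  rw [List.map_map]
  have h := s5_codes
  have h2 : (codeP ∘ fun c => ev (sym s5g) (wordsS5.getD c [])) =
      fun c => codeP (ev (sym s5g) (wordsS5.getD c [])) := rfl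
  rw [h2, h]
  exact s5_codes_nodup

theorem s5_rel : ∀ ρ ∈ relsS5, ev (sym s5g) ρ = 1 := by decide +kernel

theorem sym4_0 {G : Type*} [Group G] (a b c d : G) : sym ![a, b, c, d] 0 = a := rfl
theorem sym4_2 {G : Type*} [Group G] (a b c d : G) : sym ![a, b, c, d] 2 = b := rfl
theorem sym4_4 {G : Type*} [Group G] (a b c d : G) : sym ![a, b, c, d] 4 = c := rfl
theorem sym4_6 {G : Type*} [Group G] (a b c d : G) : sym ![a, b, c, d] 6 = d := rfl

/-- The universal property of the Coxeter presentation of `S₅`. -/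
theorem s5_hom {G : Type*} [Group G] (a b c d : G) (ha : a * a = 1) (hb : b * b = 1)
    (hc : c * c = 1) (hd : d * d = 1) (hab : (a * b) ^ 3 = 1) (hbc : (b * c) ^ 3 = 1)
    (hcd : (c * d) ^ 3 = 1) (hac : (a * c) ^ 2 = 1) (had : (a * d) ^ 2 = 1)
    (hbd : (b * d) ^ 2 = 1) :
    ∃ f : Perm (Fin 5) →* G, f (swap 0 1) = a ∧ f (swap 1 2) = b ∧ f (swap 2 3) = c ∧
      f (swap 3 4) = d := by
  have hrel : ∀ ρ ∈ relsS5, ev (sym ![a, b, c, d]) ρ = 1 := by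
    intro ρ hρ
    simp only [relsS5, List.mem_cons, List.not_mem_nil, or_false] at hρ
    rcases hρ with rfl | rfl | rfl | rfl | rfl | rfl | rfl | rfl | rfl | rfl
    · simp only [ev, sym4_0, mul_one]; exact ha
    · simp only [ev, sym4_2, mul_one]; exact hb
    · simp only [ev, sym4_4, mul_one]; exact hc
    · simp only [ev, sym4_6, mul_one]; exact hd
    · simp only [ev, sym4_0, sym4_2, mul_one]
      exact (by simp [pow_succ, mul_assoc] : _ = (a * b) ^ 3).trans hab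
    · simp only [ev, sym4_2, sym4_4, mul_one]
      exact (by simp [pow_succ, mul_assoc] : _ = (b * c) ^ 3).trans hbc
    · simp only [ev, sym4_4, sym4_6, mul_one]
      exact (by simp [pow_succ, mul_assoc] : _ = (c * d) ^ 3).trans hcd
    · simp only [ev, sym4_0, sym4_4, mul_one]
      exact (by simp [pow_succ, mul_assoc] : _ = (a * c) ^ 2).trans hac
    · simp only [ev, sym4_0, sym4_6, mul_one]
      exact (by simp [pow_succ, mul_assoc] : _ = (a * d) ^ 2).trans had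
    · simp only [ev, sym4_2, sym4_6, mul_one]
      exact (by simp [pow_succ, mul_assoc] : _ = (b * d) ^ 2).trans hbd
  obtain ⟨f, hf⟩ := hom_of_cert s5g 120 s5_card (tbl 8 8 tabS5) (vec 8 parS5)
    (vec 8 gamS5) relsS5 stepsS5 e0S5 wordsS5 s5_pre s5_run s5_words s5_nodup s5_rel
    ![a, b, c, d] hrel
  exact ⟨f, hf 0, hf 1, hf 2, hf 3⟩

/-- A homomorphism from `S₅` that does not kill a 3-cycle is injective. -/
theorem s5_inj {G : Type*} [Group G] (f : Perm (Fin 5) →* G)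
    (h : f (swap 0 1 * swap 1 2) ≠ 1) : Function.Injective f := by
  rw [← MonoidHom.ker_eq_bot_iff]
  by_contra hk
  have hnt : Nontrivial f.ker := (Subgroup.nontrivial_iff_ne_bot _).2 hk
  have hle := Equiv.Perm.alternatingGroup_le_of_normal (α := Fin 5) (by simp) hnt
  have hmem : (swap 0 1 * swap 1 2 : Perm (Fin 5)) ∈ alternatingGroup (Fin 5) := by
    rw [Equiv.Perm.mem_alternatingGroup]; decide
  exact h (hle hmem)

end Cfsg.Agent.Helper58.PresS5
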